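import Mathlib
import Groth.Prelude.Def_FlatMod2

/-!
# Helper library (helper7): stalks of quasi-coherent modules of finite type are finite modules
-/

set_option autoImplicit false
open CategoryTheory AlgebraicGeometry Topology TopologicalSpace Limits
universe u
namespace Groth.Agent.Helper7.FinType

open Scheme.Modules in
set_option backward.isDefEq.respectTransparency false in
theorem exists_isOpenCover_generators {X : Scheme.{u}} (M : X.Modules)
    (hM : SheafOfModules.IsFiniteType.{u, u, u} M) :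
    ∃ (ι : Type u) (U : ι → X.Opens),
      (∀ i, ∃ G : (M.restrict (U i).ι).GeneratingSections, G.IsFiniteType) ∧
      IsOpenCover U ∧ (∀ i, IsAffineOpen (U i)) := by
  obtain ⟨σ, hσ⟩ := hM.exists_localGeneratorsData
  obtain ⟨I, W, cov, gen⟩ := σ
  choose κ hsub heq using fun i ↦ Opens.isBasis_iff_cover.mp X.isBasis_affineOpens (W i)
  have hfin : ∀ i, (gen i).IsFiniteType := fun i => hσ.isFiniteType i
  refine ⟨Σ (i : I), κ i, fun j ↦ j.2, fun i ↦ ?_, ?_, ?_⟩
  · let u := X.homOfLE (U := i.2) (V := W i.1) (by simp [heq, le_sSup])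
    have : PreservesColimitsOfSize.{u, u} (restrictFunctor u) := inferInstance
    let F := (overEquiv (W i.1)).functor ⋙ restrictFunctor u
    let iso : SheafOfModules.overFunctor X.ringCatSheaf _ ⋙ F ≅ restrictFunctor
      (Scheme.Opens.ι i.2.1) := (Functor.associator _ _ _).symm ≪≫
        Functor.isoWhiskerRight (Scheme.Modules.overFunctorEquiv _) _ ≪≫
        (restrictFunctorComp _ _).symm ≪≫ (restrictFunctorCongr (by simp [u]))
    have := hfin i.1
    exact ⟨((gen i.1).map F (Scheme.Modules.restrictUnitIso _).symm).ofEpi (iso.app M).hom,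
      inferInstance⟩
  · rw [Opens.coversTop_iff, IsOpenCover] at cov
    rw [IsOpenCover, iSup_sigma, ← cov]
    refine iSup_congr fun i ↦ ?_
    rw [heq i, sSup_eq_iSup']
  · intro j
    exact hsub _ j.2.2

theorem finite_Γ_of_generators {R : CommRingCat.{u}} (M : (Spec R).Modules)
    [hq : SheafOfModules.IsQuasicoherent.{u, u, u} M] (G : M.GeneratingSections) [G.IsFiniteType] :
    Module.Finite R ((modulesSpecToSheaf.obj M).presheaf.obj (.op ⊤)) := by
  let N : ModuleCat.{u} R := (modulesSpecToSheaf.obj M).presheaf.obj (.op ⊤)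
  have hiso : IsIso M.fromTildeΓ := Scheme.Modules.isIso_fromTildeΓ_of_isQuasicoherent M
  let e := asIso M.fromTildeΓ
  let π' : (tilde.functor R).obj (ModuleCat.of R (G.I →₀ R)) ⟶ (tilde.functor R).obj N :=
    (tildeFinsupp G.I).hom ≫ G.π ≫ e.inv
  have hepi : Epi π' := by
    have h1 : Epi (G.π ≫ e.inv) := epi_comp _ _
    exact @epi_comp _ _ _ _ _ (tildeFinsupp G.I).hom inferInstance (G.π ≫ e.inv) h1
  let ψ : ModuleCat.of R (G.I →₀ R) ⟶ N := tilde.fullyFaithfulFunctor.preimage π'
  have hψ : (tilde.functor R).map ψ = π' := tilde.fullyFaithfulFunctor.map_preimage π'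
  have hepi2 : Epi ψ := by
    apply Functor.epi_of_epi_map (tilde.functor R)
    rw [hψ]; exact hepi
  have hsurj : Function.Surjective ψ.hom := (ModuleCat.epi_iff_surjective ψ).mp hepi2
  have hfin : Finite G.I := inferInstance
  exact Module.Finite.of_surjective ψ.hom hsurj

theorem germ_smul {X : Scheme.{u}} (M : X.Modules) (x : X) (U : X.Opens) (hx : x ∈ U)
    (r : Γ(X, U)) (m : Γ(M, U)) :
    M.presheaf.germ U x hx (r • m) = X.presheaf.germ U x hx r • M.presheaf.germ U x hx m :=
  PresheafOfModules.germ_smul (R := X.presheaf)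
    (show PresheafOfModules (X.presheaf ⋙ forget₂ CommRingCat RingCat) from M.val) x U hx r m

open Scheme.Modules in
/-- germs of the `R`-action on sections of a module over `Spec R` -/
theorem germ_smul_Spec {R : CommRingCat.{u}} (M : (Spec R).Modules) (x : Spec R)
    (U : (Spec R).Opens) (hx : x ∈ U) (r : R) (m : Γ(M, U)) :
    M.presheaf.germ U x hx (r • m) =
      (Spec R).presheaf.germ ⊤ x trivial ((Scheme.ΓSpecIso R).inv r) • M.presheaf.germ U x hx m := by
  rw [smul_Spec_def, germ_smul, TopCat.Presheaf.germ_res_apply]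

open Scheme.Modules in
theorem exists_pow_smul_eq_res {R : CommRingCat.{u}} (M : (Spec R).Modules)
    [hq : SheafOfModules.IsQuasicoherent.{u, u, u} M] (f : R)
    (m : Γ(M, PrimeSpectrum.basicOpen f)) :
    ∃ (k : ℕ) (n : Γ(M, ⊤)),
      f ^ k • m = M.presheaf.map (PrimeSpectrum.basicOpen f).leTop.op n := by
  have hiso : IsIso M.fromTildeΓ := Scheme.Modules.isIso_fromTildeΓ_of_isQuasicoherent M
  have hloc := (isIso_fromTildeΓ_iff_isLocalizing M).mp hiso f
  obtain ⟨⟨n, ⟨_, k, rfl⟩⟩, hn⟩ := hloc.surj m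
  refine ⟨k, n, ?_⟩
  exact hn

open Scheme.Modules in
theorem stalk_finite_of_Γ_finite {R : CommRingCat.{u}} (M : (Spec R).Modules)
    [hq : SheafOfModules.IsQuasicoherent.{u, u, u} M]
    (hfin : Module.Finite R Γ(M, ⊤)) (x : Spec R) :
    Module.Finite ((Spec R).presheaf.stalk x) (M.presheaf.stalk x) := by
  classical
  obtain ⟨S, hS⟩ := hfin.fg_top
  let γ : Γ(M, ⊤) → M.presheaf.stalk x := fun n => M.presheaf.germ ⊤ x trivial n
  let P : Submodule ((Spec R).presheaf.stalk x) (M.presheaf.stalk x) :=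
    Submodule.span _ (γ '' (S : Set Γ(M, ⊤)))
  have hP : P.FG := ⟨S.image γ, by simp [P]⟩
  -- every germ of a global section lies in P
  have hglob : ∀ n : Γ(M, ⊤), γ n ∈ P := by
    intro n
    have hn : n ∈ Submodule.span R (S : Set Γ(M, ⊤)) := by
      rw [hS]; trivial
    induction hn using Submodule.span_induction with
    | mem n hn => exact Submodule.subset_span ⟨n, hn, rfl⟩
    | zero => 
      have : γ 0 = 0 := map_zero (M.presheaf.germ ⊤ x trivial).hom
      rw [this]; exact P.zero_mem
    | add a b _ _ ha hb =>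
      have : γ (a + b) = γ a + γ b := map_add (M.presheaf.germ ⊤ x trivial).hom a b
      rw [this]; exact P.add_mem ha hb
    | smul r a _ ha =>
      have : γ (r • a) = (Spec R).presheaf.germ ⊤ x trivial ((Scheme.ΓSpecIso R).inv r) • γ a :=
        germ_smul_Spec M x ⊤ trivial r a
      rw [this]; exact P.smul_mem _ ha
  refine ⟨?_⟩
  suffices h : P = ⊤ by rw [← h]; exact hP
  rw [eq_top_iff]
  intro y _
  obtain ⟨V, hxV, s, rfl⟩ := TopCat.Presheaf.exists_germ_eq M.presheaf y
  obtain ⟨_, ⟨f, rfl⟩, hxf, hfV⟩ :=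
    (Opens.isBasis_iff_nbhd.mp (PrimeSpectrum.isBasis_basic_opens (R := R))) hxV
  let s' : Γ(M, PrimeSpectrum.basicOpen f) := M.presheaf.map (homOfLE hfV).op s
  have hs' : M.presheaf.germ (PrimeSpectrum.basicOpen f) x hxf s' = M.presheaf.germ V x hxV s :=
    TopCat.Presheaf.germ_res_apply M.presheaf (homOfLE hfV) x hxf s
  obtain ⟨k, n, hn⟩ := exists_pow_smul_eq_res M f s'
  have h1 := congrArg (fun t => M.presheaf.germ (PrimeSpectrum.basicOpen f) x hxf t) hn
  simp only at h1
  rw [germ_smul_Spec, TopCat.Presheaf.germ_res_apply, hs'] at h1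
  have hunit : IsUnit ((Spec R).presheaf.germ ⊤ x trivial ((Scheme.ΓSpecIso R).inv (f ^ k))) := by
    rw [map_pow, map_pow]
    apply IsUnit.pow
    rw [← Scheme.mem_basicOpen_top, basicOpen_eq_of_affine]
    exact hxf
  have h2 : (Spec R).presheaf.germ ⊤ x trivial ((Scheme.ΓSpecIso R).inv (f ^ k)) •
      M.presheaf.germ V x hxV s ∈ P := by
    rw [h1]; exact hglob n
  obtain ⟨c, hc⟩ := hunit
  rw [← hc] at h2
  have h3 := P.smul_mem (↑c⁻¹ : (Spec R).presheaf.stalk x) h2
  rwa [smul_smul, Units.inv_mul, one_smul] at h3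

open Scheme.Modules in
/-- the comparison of stalks for a restriction along an open immersion -/
noncomputable def restrictStalkIso {Y X : Scheme.{u}} (j : Y ⟶ X) [IsOpenImmersion j]
    (M : X.Modules) (y : Y) : (M.restrict j).presheaf.stalk y ≅ M.presheaf.stalk (j y) :=
  (restrictStalkNatIso j y).app M

open Scheme.Modules in
theorem germ_restrictStalkIso_hom {Y X : Scheme.{u}} (j : Y ⟶ X) [IsOpenImmersion j]
    (M : X.Modules) (y : Y) {U : Y.Opens} (hyU : y ∈ U) :
    (M.restrict j).presheaf.germ U y hyU ≫ (restrictStalkIso j M y).hom =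
      M.presheaf.germ (j ''ᵁ U) (j y) ⟨y, hyU, rfl⟩ :=
  germ_restrictStalkNatIso_hom_app j y M hyU

open Scheme.Modules in
/-- the comparison of stalks for a restriction along an open immersion is semilinear -/
theorem restrictStalk_smul {Y X : Scheme.{u}} (j : Y ⟶ X) [IsOpenImmersion j] (M : X.Modules)
    (y : Y) (r : Y.presheaf.stalk y) (a : (M.restrict j).presheaf.stalk y) :
    ∃ r' : X.presheaf.stalk (j y),
      (restrictStalkIso j M y).hom (r • a) = r' • (restrictStalkIso j M y).hom a := by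
  obtain ⟨U, hU, ρ, rfl⟩ := TopCat.Presheaf.exists_germ_eq Y.presheaf r
  obtain ⟨U', hU', γ, rfl⟩ := TopCat.Presheaf.exists_germ_eq (M.restrict j).presheaf a
  let W : Y.Opens := U ⊓ U'
  have hW : y ∈ W := ⟨hU, hU'⟩
  let ρ' : Γ(Y, W) := Y.presheaf.map (homOfLE (inf_le_left : W ≤ U)).op ρ
  let γ' : Γ(M.restrict j, W) := (M.restrict j).presheaf.map (homOfLE (inf_le_right : W ≤ U')).op γ
  have h1 : Y.presheaf.germ W y hW ρ' = Y.presheaf.germ U y hU ρ :=
    TopCat.Presheaf.germ_res_apply Y.presheaf (homOfLE inf_le_left) y hW ρ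
  have h2 : (M.restrict j).presheaf.germ W y hW γ' = (M.restrict j).presheaf.germ U' y hU' γ :=
    TopCat.Presheaf.germ_res_apply (M.restrict j).presheaf (homOfLE inf_le_right) y hW γ
  refine ⟨X.presheaf.germ (j ''ᵁ W) (j y) ⟨y, hW, rfl⟩ ((j.appIso W).inv ρ'), ?_⟩
  rw [← h1, ← h2, ← germ_smul]
  have key := germ_restrictStalkIso_hom j M y hW
  have e1 := ConcreteCategory.congr_hom key (ρ' • γ')
  have e2 := ConcreteCategory.congr_hom key γ'
  rw [ConcreteCategory.comp_apply] at e1 e2
  rw [e1, e2]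
  exact germ_smul M (j y) (j ''ᵁ W) ⟨y, hW, rfl⟩ ((j.appIso W).inv ρ') γ'

open Scheme.Modules in
theorem finite_stalk_of_restrict {Y X : Scheme.{u}} (j : Y ⟶ X) [IsOpenImmersion j]
    (M : X.Modules) (y : Y)
    (h : Module.Finite (Y.presheaf.stalk y) ((M.restrict j).presheaf.stalk y)) :
    Module.Finite (X.presheaf.stalk (j y)) (M.presheaf.stalk (j y)) := by
  classical
  obtain ⟨S, hS⟩ := h.fg_top
  let e := restrictStalkIso j M y
  let φ : (M.restrict j).presheaf.stalk y → M.presheaf.stalk (j y) := fun w => e.hom w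
  let P : Submodule (X.presheaf.stalk (j y)) (M.presheaf.stalk (j y)) :=
    Submodule.span _ (φ '' (S : Set ((M.restrict j).presheaf.stalk y)))
  have hall : ∀ w, φ w ∈ P := by
    intro w
    have hw : w ∈ Submodule.span (Y.presheaf.stalk y)
        (S : Set ((M.restrict j).presheaf.stalk y)) := by rw [hS]; trivial
    induction hw using Submodule.span_induction with
    | mem w hw => exact Submodule.subset_span ⟨w, hw, rfl⟩
    | zero =>
      have : φ 0 = 0 := map_zero e.hom.hom
      rw [this]; exact P.zero_mem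
    | add a b _ _ ha hb =>
      have : φ (a + b) = φ a + φ b := map_add e.hom.hom a b
      rw [this]; exact P.add_mem ha hb
    | smul r a _ ha =>
      obtain ⟨r', hr'⟩ := restrictStalk_smul j M y r a
      have : φ (r • a) = r' • φ a := hr'
      rw [this]; exact P.smul_mem _ ha
  refine ⟨?_⟩
  have hP : P = ⊤ := by
    rw [eq_top_iff]
    intro z _
    have h1 := hall (e.inv z)
    have h2 : φ (e.inv z) = z := by
      change e.hom (e.inv z) = z
      rw [← ConcreteCategory.comp_apply, e.inv_hom_id]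
      rfl
    rwa [h2] at h1
  rw [← hP]
  exact ⟨S.image φ, by simp [P]⟩

open Scheme.Modules in
set_option backward.isDefEq.respectTransparency false in
theorem stalk_finite_of_isCoh {X : Scheme.{u}} (M : X.Modules) (hM : Coh.IsCoh M) (x : X) :
    Module.Finite (X.presheaf.stalk x) (M.presheaf.stalk x) := by
  obtain ⟨hqc, hft⟩ := hM
  obtain ⟨ι, U, hG, hcov, haff⟩ := exists_isOpenCover_generators M hft
  obtain ⟨i, hxi⟩ : ∃ i, x ∈ U i := by
    have : x ∈ (⨆ i, U i : X.Opens) := by rw [hcov.iSup_eq_top]; trivial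
    simpa [Opens.mem_iSup] using this
  obtain ⟨G, hGfin⟩ := hG i
  have hU : IsAffineOpen (U i) := haff i
  let j : Spec Γ(X, U i) ⟶ X := hU.isoSpec.inv ≫ (U i).ι
  have hj : IsOpenImmersion j := inferInstance
  have hpres : PreservesColimitsOfSize.{u, u} (restrictFunctor hU.isoSpec.inv) := inferInstance
  let G' : (M.restrict j).GeneratingSections :=
    (G.map (restrictFunctor hU.isoSpec.inv) (restrictUnitIso _).symm).ofEpi
      ((restrictFunctorComp hU.isoSpec.inv (U i).ι).app M).inv
  have hG' : G'.IsFiniteType := inferInstance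
  have hqc' : SheafOfModules.IsQuasicoherent.{u, u, u} (M.restrict j) :=
    Scheme.Modules.isQuasicoherent_restrictFunctor j M
  have h1 : Module.Finite Γ(X, U i) Γ(M.restrict j, ⊤) := finite_Γ_of_generators (M.restrict j) G'
  have hrange : x ∈ Set.range j := by
    have : Set.range j = (U i : Set X) := hU.range_fromSpec
    rw [this]; exact hxi
  obtain ⟨y, rfl⟩ := hrange
  have h2 := stalk_finite_of_Γ_finite (M.restrict j) h1 y
  exact finite_stalk_of_restrict j M y h2

end Groth.Agent.Helper7.FinType
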