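import Mathlib
import Groth.Agent.Lib.Helper7.CohStalk.Finite

/-!
# Helper library (helper7): stalks of quasi-coherent modules as localizations of sections over
affine opens
-/

set_option autoImplicit false
open CategoryTheory AlgebraicGeometry Topology TopologicalSpace Limits
universe u
namespace Groth.Agent.Helper7.FinType

open Scheme.Modules in
/-- a germ of a quasi-coherent module on `Spec R` is a fraction of a global section -/
theorem exists_germ_smul_eq_Spec {R : CommRingCat.{u}} (M : (Spec R).Modules)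
    [hq : SheafOfModules.IsQuasicoherent.{u, u, u} M] (x : Spec R) (m : M.presheaf.stalk x) :
    ∃ (n : Γ(M, ⊤)) (f : R), x ∈ PrimeSpectrum.basicOpen f ∧
      (Spec R).presheaf.germ ⊤ x trivial ((Scheme.ΓSpecIso R).inv f) • m =
        M.presheaf.germ ⊤ x trivial n := by
  obtain ⟨V, hxV, s, rfl⟩ := TopCat.Presheaf.exists_germ_eq M.presheaf m
  obtain ⟨_, ⟨f, rfl⟩, hxf, hfV⟩ :=
    (Opens.isBasis_iff_nbhd.mp (PrimeSpectrum.isBasis_basic_opens (R := R))) hxV
  let s' : Γ(M, PrimeSpectrum.basicOpen f) := M.presheaf.map (homOfLE hfV).op s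
  have hs' : M.presheaf.germ (PrimeSpectrum.basicOpen f) x hxf s' = M.presheaf.germ V x hxV s :=
    TopCat.Presheaf.germ_res_apply M.presheaf (homOfLE hfV) x hxf s
  obtain ⟨k, n, hn⟩ := exists_pow_smul_eq_res M f s'
  have h1 := congrArg (fun t => M.presheaf.germ (PrimeSpectrum.basicOpen f) x hxf t) hn
  simp only at h1
  rw [germ_smul_Spec, TopCat.Presheaf.germ_res_apply, hs'] at h1
  refine ⟨n, f ^ k, ?_, h1⟩
  exact PrimeSpectrum.le_basicOpen_pow f k hxf

open Scheme.Modules in
/-- a global section of a quasi-coherent module on `Spec R` with vanishing germ at `x` is killed by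
some `f` with `x ∈ D(f)` -/
theorem exists_smul_eq_zero_of_germ_eq_zero_Spec {R : CommRingCat.{u}} (M : (Spec R).Modules)
    [hq : SheafOfModules.IsQuasicoherent.{u, u, u} M] (x : Spec R) (n : Γ(M, ⊤))
    (hn : M.presheaf.germ ⊤ x trivial n = 0) :
    ∃ f : R, x ∈ PrimeSpectrum.basicOpen f ∧ f • n = 0 := by
  have h0 : M.presheaf.germ ⊤ x trivial n = M.presheaf.germ ⊤ x trivial 0 := by
    rw [hn, map_zero]
  obtain ⟨_, hxf, ⟨f, rfl⟩, h1W, h2W, hW⟩ := TopCat.Presheaf.germ_eq_of_isBasis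
    (PrimeSpectrum.isBasis_basic_opens (R := R)) M.presheaf x (U := ⊤) (V := ⊤) trivial trivial h0
  have hiso : IsIso M.fromTildeΓ := Scheme.Modules.isIso_fromTildeΓ_of_isQuasicoherent M
  have hloc := (isIso_fromTildeΓ_iff_isLocalizing M).mp hiso f
  have h1 : M.presheaf.map (PrimeSpectrum.basicOpen f).leTop.op n =
      M.presheaf.map (PrimeSpectrum.basicOpen f).leTop.op 0 := hW
  obtain ⟨⟨_, k, rfl⟩, hk⟩ := hloc.exists_of_eq (x₁ := n) (x₂ := 0) h1
  refine ⟨f ^ k, PrimeSpectrum.le_basicOpen_pow f k hxf, ?_⟩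
  have : f ^ k • n = f ^ k • (0 : Γ(M, ⊤)) := hk
  rw [this, smul_zero]

open Scheme.Modules in
/-- explicit semilinearity of the comparison of stalks along an open immersion -/
theorem restrictStalkIso_germ_smul {Y X : Scheme.{u}} (j : Y ⟶ X) [IsOpenImmersion j]
    (M : X.Modules) (y : Y) {W : Y.Opens} (hW : y ∈ W) (ρ : Γ(Y, W))
    (a : (M.restrict j).presheaf.stalk y) :
    (restrictStalkIso j M y).hom (Y.presheaf.germ W y hW ρ • a) =
      X.presheaf.germ (j ''ᵁ W) (j y) ⟨y, hW, rfl⟩ ((j.appIso W).inv ρ) •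
        (restrictStalkIso j M y).hom a := by
  obtain ⟨U', hU', γ, rfl⟩ := TopCat.Presheaf.exists_germ_eq (M.restrict j).presheaf a
  let W' : Y.Opens := W ⊓ U'
  have hW' : y ∈ W' := ⟨hW, hU'⟩
  let ρ' : Γ(Y, W') := Y.presheaf.map (homOfLE (inf_le_left : W' ≤ W)).op ρ
  let γ' : Γ(M.restrict j, W') := (M.restrict j).presheaf.map (homOfLE (inf_le_right : W' ≤ U')).op γ
  have h1 : Y.presheaf.germ W' y hW' ρ' = Y.presheaf.germ W y hW ρ :=
    TopCat.Presheaf.germ_res_apply Y.presheaf (homOfLE inf_le_left) y hW' ρ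
  have h2 : (M.restrict j).presheaf.germ W' y hW' γ' = (M.restrict j).presheaf.germ U' y hU' γ :=
    TopCat.Presheaf.germ_res_apply (M.restrict j).presheaf (homOfLE inf_le_right) y hW' γ
  have h3 : X.presheaf.germ (j ''ᵁ W') (j y) ⟨y, hW', rfl⟩ ((j.appIso W').inv ρ') =
      X.presheaf.germ (j ''ᵁ W) (j y) ⟨y, hW, rfl⟩ ((j.appIso W).inv ρ) := by
    have hnat := Scheme.Hom.appIso_inv_naturality j (homOfLE (inf_le_left : W' ≤ W)).op
    have e := ConcreteCategory.congr_hom hnat ρ
    rw [ConcreteCategory.comp_apply, ConcreteCategory.comp_apply] at e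
    change (j.appIso W').inv ρ' = _ at e
    rw [e]
    exact TopCat.Presheaf.germ_res_apply X.presheaf
      (j.opensFunctor.map (homOfLE (inf_le_left : W' ≤ W))) (j y) ⟨y, hW', rfl⟩ _
  rw [← h1, ← h2, ← germ_smul, ← h3]
  have key := germ_restrictStalkIso_hom j M y hW'
  have e1 := ConcreteCategory.congr_hom key (ρ' • γ')
  have e2 := ConcreteCategory.congr_hom key γ'
  rw [ConcreteCategory.comp_apply] at e1 e2
  rw [e1, e2]
  exact germ_smul M (j y) (j ''ᵁ W') ⟨y, hW', rfl⟩ ((j.appIso W').inv ρ') γ'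

/-- the unit property of germs transported along an open immersion from an affine scheme -/
theorem isUnit_germ_appIso_inv {R : CommRingCat.{u}} {X : Scheme.{u}} (j : Spec R ⟶ X)
    [IsOpenImmersion j] (y : Spec R) (r : R) (hy : y ∈ PrimeSpectrum.basicOpen r) :
    IsUnit (X.presheaf.germ (j ''ᵁ ⊤) (j y) ⟨y, trivial, rfl⟩
      ((j.appIso ⊤).inv ((Scheme.ΓSpecIso R).inv r))) := by
  have h1 : IsUnit ((Spec R).presheaf.germ ⊤ y trivial ((Scheme.ΓSpecIso R).inv r)) := by
    rw [← Scheme.mem_basicOpen_top, basicOpen_eq_of_affine]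
    exact hy
  set s := (Scheme.ΓSpecIso R).inv r with hs
  have hloc : IsLocalHom (j.stalkMap y).hom := inferInstance
  apply isUnit_of_map_unit (j.stalkMap y).hom
  have h2 := Scheme.Hom.germ_stalkMap_apply j (j ''ᵁ ⊤) y ⟨y, trivial, rfl⟩ ((j.appIso ⊤).inv s)
  rw [h2]
  have h3 := Scheme.Hom.appIso_inv_app_apply j ⊤ s
  rw [h3]
  rw [TopCat.Presheaf.germ_res_apply']
  exact h1

open Scheme.Modules in
/-- auxiliary form of `exists_germ_smul_eq` -/
theorem exists_germ_smul_eq_aux {R : CommRingCat.{u}} {X : Scheme.{u}} (j : Spec R ⟶ X)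
    [IsOpenImmersion j] (M : X.Modules) (hq : SheafOfModules.IsQuasicoherent.{u, u, u} M)
    (V : X.Opens) (h : j ''ᵁ ⊤ = V) (y : Spec R) (hyV : j y ∈ V) (m : M.presheaf.stalk (j y)) :
    ∃ (n : Γ(M, V)) (f : Γ(X, V)), IsUnit (X.presheaf.germ V (j y) hyV f) ∧
      X.presheaf.germ V (j y) hyV f • m = M.presheaf.germ V (j y) hyV n := by
  subst h
  have hq' : SheafOfModules.IsQuasicoherent.{u, u, u} (M.restrict j) :=
    Scheme.Modules.isQuasicoherent_restrictFunctor j M
  let e := restrictStalkIso j M y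
  obtain ⟨n, r, hyr, hn⟩ := exists_germ_smul_eq_Spec (M.restrict j) y (e.inv m)
  refine ⟨n, (j.appIso ⊤).inv ((Scheme.ΓSpecIso R).inv r), isUnit_germ_appIso_inv j y r hyr, ?_⟩
  have h1 := congrArg (fun t => e.hom t) hn
  simp only at h1
  rw [restrictStalkIso_germ_smul] at h1
  have h2 : e.hom (e.inv m) = m := by
    rw [← ConcreteCategory.comp_apply, e.inv_hom_id]; rfl
  rw [h2] at h1
  rw [h1]
  have key := germ_restrictStalkIso_hom j M y (U := ⊤) trivial
  have e1 := ConcreteCategory.congr_hom key n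
  rw [ConcreteCategory.comp_apply] at e1
  exact e1

open Scheme.Modules in
/-- auxiliary form of `exists_smul_eq_zero_of_germ_eq_zero` -/
theorem exists_smul_eq_zero_aux {R : CommRingCat.{u}} {X : Scheme.{u}} (j : Spec R ⟶ X)
    [IsOpenImmersion j] (M : X.Modules) (hq : SheafOfModules.IsQuasicoherent.{u, u, u} M)
    (V : X.Opens) (h : j ''ᵁ ⊤ = V) (y : Spec R) (hyV : j y ∈ V) (n : Γ(M, V))
    (hn : M.presheaf.germ V (j y) hyV n = 0) :
    ∃ f : Γ(X, V), IsUnit (X.presheaf.germ V (j y) hyV f) ∧ f • n = 0 := by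
  subst h
  have hq' : SheafOfModules.IsQuasicoherent.{u, u, u} (M.restrict j) :=
    Scheme.Modules.isQuasicoherent_restrictFunctor j M
  let e := restrictStalkIso j M y
  let n' : Γ(M.restrict j, ⊤) := n
  have key := germ_restrictStalkIso_hom j M y (U := ⊤) trivial
  have e1 := ConcreteCategory.congr_hom key n'
  rw [ConcreteCategory.comp_apply] at e1
  have h0 : (M.restrict j).presheaf.germ ⊤ y trivial n' = 0 := by
    have h2 : e.hom ((M.restrict j).presheaf.germ ⊤ y trivial n') = 0 := by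
      rw [e1]; exact hn
    have h3 := congrArg (fun t => e.inv t) h2
    simp only at h3
    rw [← ConcreteCategory.comp_apply, e.hom_inv_id] at h3
    rw [map_zero] at h3
    exact h3
  obtain ⟨r, hyr, hr⟩ := exists_smul_eq_zero_of_germ_eq_zero_Spec (M.restrict j) y n' h0
  refine ⟨(j.appIso ⊤).inv ((Scheme.ΓSpecIso R).inv r), isUnit_germ_appIso_inv j y r hyr, ?_⟩
  rw [smul_Spec_def] at hr
  have h4 : (Spec R).presheaf.map (⊤ : (Spec R).Opens).leTop.op ((Scheme.ΓSpecIso R).inv r) =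
      (Scheme.ΓSpecIso R).inv r := by
    have : (⊤ : (Spec R).Opens).leTop.op = 𝟙 _ := rfl
    rw [this, CategoryTheory.Functor.map_id]; rfl
  rw [h4] at hr
  exact hr

/-- Every element of the stalk of a quasi-coherent module at a point of an affine open `U` is a
fraction of a section over `U`. -/
theorem exists_germ_smul_eq {X : Scheme.{u}} (M : X.Modules)
    (hq : SheafOfModules.IsQuasicoherent.{u, u, u} M) {U : X.Opens} (hU : IsAffineOpen U)
    (x : X) (hx : x ∈ U) (m : M.presheaf.stalk x) :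
    ∃ (n : Γ(M, U)) (f : Γ(X, U)), IsUnit (X.presheaf.germ U x hx f) ∧
      X.presheaf.germ U x hx f • m = M.presheaf.germ U x hx n := by
  have hy : hU.fromSpec (hU.primeIdealOf ⟨x, hx⟩) = x := hU.fromSpec_primeIdealOf ⟨x, hx⟩
  generalize hU.primeIdealOf ⟨x, hx⟩ = y at hy
  subst hy
  have h : hU.fromSpec ''ᵁ ⊤ = U := by
    rw [Scheme.Hom.image_top_eq_opensRange, hU.opensRange_fromSpec]
  exact exists_germ_smul_eq_aux hU.fromSpec M hq U h y hx m

/-- A section of a quasi-coherent module over an affine open `U` whose germ at `x ∈ U` vanishes is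
killed by a function on `U` invertible at `x`. -/
theorem exists_smul_eq_zero_of_germ_eq_zero {X : Scheme.{u}} (M : X.Modules)
    (hq : SheafOfModules.IsQuasicoherent.{u, u, u} M) {U : X.Opens} (hU : IsAffineOpen U)
    (x : X) (hx : x ∈ U) (n : Γ(M, U)) (hn : M.presheaf.germ U x hx n = 0) :
    ∃ f : Γ(X, U), IsUnit (X.presheaf.germ U x hx f) ∧ f • n = 0 := by
  have hy : hU.fromSpec (hU.primeIdealOf ⟨x, hx⟩) = x := hU.fromSpec_primeIdealOf ⟨x, hx⟩
  generalize hU.primeIdealOf ⟨x, hx⟩ = y at hy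
  subst hy
  have h : hU.fromSpec ''ᵁ ⊤ = U := by
    rw [Scheme.Hom.image_top_eq_opensRange, hU.opensRange_fromSpec]
  exact exists_smul_eq_zero_aux hU.fromSpec M hq U h y hx n hn

end Groth.Agent.Helper7.FinType
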