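import Mathlib
import Groth.Agent.Lib.Helper7.CohStalk.QCoh

/-!
# Helper library (helper7): supports of quasi-coherent modules
-/

set_option autoImplicit false
open CategoryTheory AlgebraicGeometry Topology TopologicalSpace Limits
universe u
namespace Groth.Agent.Helper7.FinType

/-- if the stalk at `y` of a quasi-coherent module vanishes, so does the stalk at every
generalization of `y` -/
theorem subsingleton_stalk_of_specializes {X : Scheme.{u}} (F : X.Modules)
    (hq : SheafOfModules.IsQuasicoherent.{u, u, u} F) {x y : X} (hxy : x ⤳ y)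
    (hy : Subsingleton (F.presheaf.stalk y)) : Subsingleton (F.presheaf.stalk x) := by
  obtain ⟨_, ⟨U, hU, rfl⟩, hyU, -⟩ :=
    (X.isBasis_affineOpens).exists_subset_of_mem_open (Set.mem_univ y) isOpen_univ
  have hyU' : y ∈ U := hyU
  have hxU : x ∈ U := hxy.mem_open U.2 hyU'
  refine ⟨fun m m' => ?_⟩
  suffices h : ∀ m : F.presheaf.stalk x, m = 0 by rw [h m, h m']
  intro m
  obtain ⟨n, f, hf, hn⟩ := exists_germ_smul_eq F hq hU x hxU m
  have hn0 : F.presheaf.germ U y hyU' n = 0 := Subsingleton.elim _ _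
  obtain ⟨g, hg, hgn⟩ := exists_smul_eq_zero_of_germ_eq_zero F hq hU y hyU' n hn0
  have hyg : y ∈ X.basicOpen g := (X.mem_basicOpen g y hyU').mpr hg
  have hxg : x ∈ X.basicOpen g := hxy.mem_open (X.basicOpen g).2 hyg
  have hgx : IsUnit (X.presheaf.germ U x hxU g) := (X.mem_basicOpen g x hxU).mp hxg
  have h1 : X.presheaf.germ U x hxU g • F.presheaf.germ U x hxU n = 0 := by
    rw [← germ_smul, hgn, map_zero]
  have h2 : F.presheaf.germ U x hxU n = 0 := by
    obtain ⟨c, hc⟩ := hgx
    rw [← hc] at h1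
    have := congrArg (fun t => (↑c⁻¹ : X.presheaf.stalk x) • t) h1
    simpa [smul_smul] using this
  rw [h2] at hn
  obtain ⟨c, hc⟩ := hf
  rw [← hc] at hn
  have := congrArg (fun t => (↑c⁻¹ : X.presheaf.stalk x) • t) hn
  simpa [smul_smul] using this

/-- a function on an affine open lies outside the prime of `x` iff its germ at `x` is a unit -/
theorem notMem_primeIdealOf_iff {X : Scheme.{u}} {U : X.Opens} (hU : IsAffineOpen U) (x : X)
    (hx : x ∈ U) (r : Γ(X, U)) :
    r ∉ (hU.primeIdealOf ⟨x, hx⟩).asIdeal ↔ IsUnit (X.presheaf.germ U x hx r) := by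
  rw [← X.mem_basicOpen r x hx]
  have h1 : hU.fromSpec (hU.primeIdealOf ⟨x, hx⟩) = x := hU.fromSpec_primeIdealOf ⟨x, hx⟩
  have h2 := hU.fromSpec_preimage_basicOpen (f := r)
  have h3 : hU.primeIdealOf ⟨x, hx⟩ ∈ hU.fromSpec ⁻¹ᵁ X.basicOpen r ↔ x ∈ X.basicOpen r := by
    change hU.fromSpec (hU.primeIdealOf ⟨x, hx⟩) ∈ X.basicOpen r ↔ _
    rw [h1]
  rw [← h3, h2]
  rfl

/-- the unit germs cancel -/
theorem eq_zero_of_isUnit_smul_eq_zero {R M : Type*} [CommRing R] [AddCommGroup M] [Module R M]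
    {c : R} (hc : IsUnit c) {m : M} (h : c • m = 0) : m = 0 := by
  obtain ⟨c, rfl⟩ := hc
  have := congrArg (fun t => (↑c⁻¹ : R) • t) h
  simpa [smul_smul] using this

/-- the support of the sections over an affine open of a quasi-coherent module is the trace of
the support of the module -/
theorem primeIdealOf_mem_support_iff {X : Scheme.{u}} (F : X.Modules)
    (hq : SheafOfModules.IsQuasicoherent.{u, u, u} F) {U : X.Opens} (hU : IsAffineOpen U)
    (x : X) (hx : x ∈ U) :
    hU.primeIdealOf ⟨x, hx⟩ ∈ Module.support Γ(X, U) Γ(F, U) ↔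
      ¬ Subsingleton (F.presheaf.stalk x) := by
  rw [← not_iff_not, not_not, Module.notMem_support_iff']
  constructor
  · intro h
    refine ⟨fun m m' => ?_⟩
    suffices h0 : ∀ m : F.presheaf.stalk x, m = 0 by rw [h0 m, h0 m']
    intro m
    obtain ⟨n, f, hf, hn⟩ := exists_germ_smul_eq F hq hU x hx m
    obtain ⟨r, hr, hrn⟩ := h n
    have hr' := (notMem_primeIdealOf_iff hU x hx r).mp hr
    have h1 : X.presheaf.germ U x hx r • F.presheaf.germ U x hx n = 0 := by
      rw [← germ_smul, hrn, map_zero]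
    have h2 := eq_zero_of_isUnit_smul_eq_zero hr' h1
    rw [h2] at hn
    exact eq_zero_of_isUnit_smul_eq_zero hf hn
  · intro h n
    have hn0 : F.presheaf.germ U x hx n = 0 := Subsingleton.elim _ _
    obtain ⟨g, hg, hgn⟩ := exists_smul_eq_zero_of_germ_eq_zero F hq hU x hx n hn0
    exact ⟨g, (notMem_primeIdealOf_iff hU x hx g).mpr hg, hgn⟩

end Groth.Agent.Helper7.FinType
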