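import Mathlib
import Groth.Agent.Lib.Helper7.CohStalk.Support

/-!
# Helper library (helper7): (weakly) associated points of quasi-coherent modules at minimal points
of the support
-/

set_option autoImplicit false
open CategoryTheory AlgebraicGeometry Topology TopologicalSpace Limits
universe u
namespace Groth.Agent.Helper7.FinType


/-- in a local ring, if a module is supported only at the maximal ideal then the radical of the
annihilator of any nonzero element is the maximal ideal -/
theorem radical_ann_eq_maximalIdeal {A M : Type*} [CommRing A] [IsLocalRing A] [AddCommGroup M]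
    [Module A M]
    (h : ∀ q : Ideal A, q.IsPrime → q ≠ IsLocalRing.maximalIdeal A → ∀ m : M, ∃ s ∉ q, s • m = 0)
    (m : M) (hm : m ≠ 0) (I : Ideal A) (hI : ∀ r, r ∈ I ↔ r • m = 0) :
    I.radical = IsLocalRing.maximalIdeal A := by
  have hne : I ≠ ⊤ := by
    intro htop
    have : (1 : A) ∈ I := by rw [htop]; trivial
    rw [hI, one_smul] at this
    exact hm this
  rw [Ideal.radical_eq_sInf]
  apply le_antisymm
  · exact sInf_le ⟨IsLocalRing.le_maximalIdeal hne, inferInstance⟩
  · apply le_sInf
    rintro J ⟨hIJ, hJ⟩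
    by_cases hJm : J = IsLocalRing.maximalIdeal A
    · rw [hJm]
    · obtain ⟨s, hs, hsm⟩ := h J hJ hJm m
      exact absurd (hIJ ((hI s).mpr hsm)) hs

/-- germs at `x` of functions invertible at a generalization -/
theorem germ_notMem_of_mem_basicOpen {X : Scheme.{u}} (x : X) {U : X.Opens} (hx : x ∈ U)
    (g : Γ(X, U)) (q : PrimeSpectrum (X.presheaf.stalk x))
    (hq : X.fromSpecStalk x q ∈ X.basicOpen g) :
    X.presheaf.germ U x hx g ∉ q.asIdeal := by
  have h1 : q ∈ (X.fromSpecStalk x) ⁻¹ᵁ X.basicOpen g := hq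
  rw [Scheme.preimage_basicOpen, Scheme.fromSpecStalk_app hx] at h1
  simp only [CommRingCat.comp_apply] at h1
  rw [Scheme.basicOpen_res] at h1
  have h2 := h1.2
  rw [basicOpen_eq_of_affine] at h2
  exact h2

/-- at a point of the support of a quasi-coherent module which is not a proper specialization of a
point of the support, the stalk is supported only at the maximal ideal -/
theorem exists_smul_eq_zero_of_forall_specializes {X : Scheme.{u}} (F : X.Modules)
    (hq : SheafOfModules.IsQuasicoherent.{u, u, u} F) (x : X)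
    (hmax : ∀ y : X, ¬ Subsingleton (F.presheaf.stalk y) → y ⤳ x → y = x)
    (q : Ideal (X.presheaf.stalk x)) (hqp : q.IsPrime)
    (hqm : q ≠ IsLocalRing.maximalIdeal (X.presheaf.stalk x)) (m : F.presheaf.stalk x) :
    ∃ s ∉ q, s • m = 0 := by
  let q' : PrimeSpectrum (X.presheaf.stalk x) := ⟨q, hqp⟩
  let y : X := X.fromSpecStalk x q'
  have hyx : y ⤳ x := by
    have : y ∈ Set.range (X.fromSpecStalk x) := ⟨q', rfl⟩
    rw [Scheme.range_fromSpecStalk] at this
    exact this
  have hne : y ≠ x := by
    intro hyx'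
    have h1 : X.fromSpecStalk x q' =
        X.fromSpecStalk x (IsLocalRing.closedPoint (X.presheaf.stalk x)) := by
      rw [Scheme.fromSpecStalk_closedPoint]; exact hyx'
    have h2 := (X.fromSpecStalk x).isEmbedding.injective h1
    apply hqm
    have h3 := congrArg PrimeSpectrum.asIdeal h2
    exact h3
  have hsub : Subsingleton (F.presheaf.stalk y) := by
    by_contra hcon
    exact hne (hmax y hcon hyx)
  obtain ⟨_, ⟨U, hU, rfl⟩, hxU, -⟩ :=
    (X.isBasis_affineOpens).exists_subset_of_mem_open (Set.mem_univ x) isOpen_univ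
  have hxU' : x ∈ U := hxU
  have hyU : y ∈ U := hyx.mem_open U.2 hxU'
  obtain ⟨n, f, hf, hn⟩ := exists_germ_smul_eq F hq hU x hxU' m
  have hn0 : F.presheaf.germ U y hyU n = 0 := Subsingleton.elim _ _
  obtain ⟨g, hg, hgn⟩ := exists_smul_eq_zero_of_germ_eq_zero F hq hU y hyU n hn0
  have hyg : y ∈ X.basicOpen g := (X.mem_basicOpen g y hyU).mpr hg
  have hgq : X.presheaf.germ U x hxU' g ∉ q := germ_notMem_of_mem_basicOpen x hxU' g q' hyg
  have hfq : X.presheaf.germ U x hxU' f ∉ q := fun hmem =>
    hqp.ne_top (Ideal.eq_top_of_isUnit_mem _ hmem hf)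
  refine ⟨X.presheaf.germ U x hxU' g * X.presheaf.germ U x hxU' f, ?_, ?_⟩
  · intro hmem
    rcases hqp.mem_or_mem hmem with h | h
    · exact hgq h
    · exact hfq h
  · rw [mul_smul, hn, ← germ_smul, hgn, map_zero]

end Groth.Agent.Helper7.FinType
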