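import Mathlib
import Groth.Prelude.Def_CurvBase
import Groth.Agent.Lib.Helper7.CohStalk.Ass

/-!
# Helper library (helper7): existence of weakly associated points of quasi-coherent modules
-/

set_option autoImplicit false
open CategoryTheory AlgebraicGeometry Topology TopologicalSpace Limits
universe u
namespace Groth.Agent.Helper7.FinType


/-- in a local ring, if every prime other than the maximal ideal misses an element of the
annihilator of `m ≠ 0`, then the radical of the annihilator of `m` is the maximal ideal -/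
theorem radical_ann_eq_maximalIdeal' {A M : Type*} [CommRing A] [IsLocalRing A] [AddCommGroup M]
    [Module A M] (m : M) (hm : m ≠ 0)
    (h : ∀ q : Ideal A, q.IsPrime → q ≠ IsLocalRing.maximalIdeal A → ∃ s ∉ q, s • m = 0)
    (I : Ideal A) (hI : ∀ r, r ∈ I ↔ r • m = 0) :
    I.radical = IsLocalRing.maximalIdeal A := by
  have hne : I ≠ ⊤ := by
    intro htop
    have : (1 : A) ∈ I := by rw [htop]; trivial
    rw [hI, one_smul] at this
    exact hm this
  rw [Ideal.radical_eq_sInf]
  apply le_antisymm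
  · exact sInf_le ⟨IsLocalRing.le_maximalIdeal hne, inferInstance⟩
  · apply le_sInf
    rintro J ⟨hIJ, hJ⟩
    by_cases hJm : J = IsLocalRing.maximalIdeal A
    · rw [hJm]
    · obtain ⟨s, hs, hsm⟩ := h J hJ hJm
      exact absurd (hIJ ((hI s).mpr hsm)) hs

/-- a function on an affine open lies outside a prime iff its germ at the corresponding point is a
unit -/
theorem notMem_asIdeal_iff_isUnit_germ {X : Scheme.{u}} {U : X.Opens} (hU : IsAffineOpen U)
    (p : PrimeSpectrum Γ(X, U)) (hy : hU.fromSpec p ∈ U) (r : Γ(X, U)) :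
    r ∉ p.asIdeal ↔ IsUnit (X.presheaf.germ U (hU.fromSpec p) hy r) := by
  rw [← X.mem_basicOpen r _ hy]
  have h2 := hU.fromSpec_preimage_basicOpen (f := r)
  have h3 : p ∈ hU.fromSpec ⁻¹ᵁ X.basicOpen r ↔ hU.fromSpec p ∈ X.basicOpen r := Iff.rfl
  rw [← h3, h2]
  rfl

/-- Core lemma: a nonzero section of a quasi-coherent module over an affine open has a weakly
associated point at which its germ is a witness. -/
theorem exists_weakAss_of_section_ne_zero {X : Scheme.{u}} (F : X.Modules)
    (hq : SheafOfModules.IsQuasicoherent.{u, u, u} F) {U : X.Opens} (hU : IsAffineOpen U)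
    (m : Γ(F, U)) (hm : m ≠ 0) :
    ∃ (y : X) (hy : y ∈ U), F.presheaf.germ U y hy m ≠ 0 ∧
      (∀ a : Γ(X, U), a • m = 0 → ¬ IsUnit (X.presheaf.germ U y hy a)) ∧
      ∀ I : Ideal (X.presheaf.stalk y), (∀ r, r ∈ I ↔ r • F.presheaf.germ U y hy m = 0) →
        I.radical = IsLocalRing.maximalIdeal (X.presheaf.stalk y) := by
  classical
  let I₀ : Ideal Γ(X, U) := LinearMap.ker (LinearMap.toSpanSingleton Γ(X, U) Γ(F, U) m)
  have hI₀ : ∀ a : Γ(X, U), a ∈ I₀ ↔ a • m = 0 := fun a => by
    rw [LinearMap.mem_ker, LinearMap.toSpanSingleton_apply]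
  have hne : I₀ ≠ ⊤ := by
    intro htop
    have : (1 : Γ(X, U)) ∈ I₀ := by rw [htop]; trivial
    rw [hI₀, one_smul] at this
    exact hm this
  obtain ⟨J, hJ, hIJ⟩ := Ideal.exists_le_maximal I₀ hne
  have hJp : J.IsPrime := hJ.isPrime
  obtain ⟨P, hPmin, -⟩ := Ideal.exists_minimalPrimes_le hIJ
  have hPp : P.IsPrime := hPmin.1.1
  have hIP : I₀ ≤ P := hPmin.1.2
  let p : PrimeSpectrum Γ(X, U) := ⟨P, hPp⟩
  let y : X := hU.fromSpec p
  have hy : y ∈ U := by
    have : y ∈ Set.range hU.fromSpec := ⟨p, rfl⟩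
    rw [hU.range_fromSpec] at this
    exact this
  have key : ∀ r : Γ(X, U), r ∉ P ↔ IsUnit (X.presheaf.germ U y hy r) :=
    fun r => notMem_asIdeal_iff_isUnit_germ hU p hy r
  have hμ : F.presheaf.germ U y hy m ≠ 0 := by
    intro h0
    obtain ⟨g, hg, hgm⟩ := exists_smul_eq_zero_of_germ_eq_zero F hq hU y hy m h0
    exact (key g).mpr hg (hIP ((hI₀ g).mpr hgm))
  have hann : ∀ a : Γ(X, U), a • m = 0 → ¬ IsUnit (X.presheaf.germ U y hy a) := by
    intro a ha hu
    exact (key a).mpr hu (hIP ((hI₀ a).mpr ha))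
  refine ⟨y, hy, hμ, hann, ?_⟩
  intro I hI
  refine radical_ann_eq_maximalIdeal' _ hμ ?_ I hI
  intro q hqp hqm
  let φ : Γ(X, U) →+* X.presheaf.stalk y := (X.presheaf.germ U y hy).hom
  let q' : Ideal Γ(X, U) := q.comap φ
  have hq'p : q'.IsPrime := Ideal.comap_isPrime φ q
  have hq'P : q' ≤ P := by
    intro r hr
    by_contra hrP
    have hu := (key r).mp hrP
    exact hqp.ne_top (Ideal.eq_top_of_isUnit_mem _ hr hu)
  have hnot : ¬ I₀ ≤ q' := by
    intro hle
    have hPq' : P ≤ q' := hPmin.2 ⟨hq'p, hle⟩ hq'P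
    apply hqm
    apply le_antisymm (IsLocalRing.le_maximalIdeal hqp.ne_top)
    intro t ht
    have hloc := hU.isLocalization_stalk' p hy
    obtain ⟨⟨a, f⟩, haf⟩ := @IsLocalization.surj _ _ P.primeCompl _ _
      (TopCat.Presheaf.algebra_section_stalk X.presheaf ⟨y, hy⟩) hloc t
    have haf' : t * φ f.1 = φ a := haf
    have hfu : IsUnit (φ f.1) := (key f.1).mp f.2
    have haP : a ∈ P := by
      by_contra haP
      have hau : IsUnit (φ a) := (key a).mp haP
      rw [← haf'] at hau
      have : IsUnit t := isUnit_of_mul_isUnit_left hau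
      exact ht this
    have haq : φ a ∈ q := hPq' haP
    rw [← haf'] at haq
    rcases hqp.mem_or_mem haq with h | h
    · exact h
    · exact absurd (Ideal.eq_top_of_isUnit_mem _ h hfu) hqp.ne_top
  obtain ⟨a, haI, haq'⟩ := Set.not_subset.mp hnot
  refine ⟨φ a, haq', ?_⟩
  change X.presheaf.germ U y hy a • F.presheaf.germ U y hy m = 0
  rw [← germ_smul, (hI₀ a).mp haI, map_zero]

/-- the two prelude notions of (weakly) associated point agree -/
theorem isAssPoint_iff_isWeakAssPoint {X : Scheme.{u}} (F : X.Modules) (x : X) :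
    Curv2.IsAssPoint F x ↔ Curv2.IsWeakAssPoint F x := by
  constructor
  · rintro ⟨-, μ, hμ⟩
    refine ⟨μ, ?_⟩
    rw [hμ]
    congr 1
    ext r
    rw [LinearMap.mem_ker, LinearMap.toSpanSingleton_apply, Submodule.mem_colon_singleton,
      Submodule.mem_bot]
  · rintro ⟨μ, hμ⟩
    refine ⟨inferInstance, μ, ?_⟩
    rw [← hμ]
    congr 1
    ext r
    rw [LinearMap.mem_ker, LinearMap.toSpanSingleton_apply, Submodule.mem_colon_singleton,
      Submodule.mem_bot]

/-- a nonzero section of a quasi-coherent module over an affine open has nonzero germ at some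
weakly associated point, at which every function killing the section is a non-unit -/
theorem exists_isWeakAssPoint_of_section_ne_zero {X : Scheme.{u}} (F : X.Modules)
    (hq : SheafOfModules.IsQuasicoherent.{u, u, u} F) {U : X.Opens} (hU : IsAffineOpen U)
    (m : Γ(F, U)) (hm : m ≠ 0) :
    ∃ (y : X) (hy : y ∈ U), F.presheaf.germ U y hy m ≠ 0 ∧
      (∀ a : Γ(X, U), a • m = 0 → ¬ IsUnit (X.presheaf.germ U y hy a)) ∧
      Curv2.IsWeakAssPoint F y := by
  obtain ⟨y, hy, h1, h2, h3⟩ := exists_weakAss_of_section_ne_zero F hq hU m hm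
  refine ⟨y, hy, h1, h2, F.presheaf.germ U y hy m, ?_⟩
  apply h3
  intro r
  rw [LinearMap.mem_ker, LinearMap.toSpanSingleton_apply]

/-- a section of a quasi-coherent module whose germs at all weakly associated points vanish is
zero -/
theorem section_eq_zero_of_forall_isWeakAssPoint {X : Scheme.{u}} (F : X.Modules)
    (hq : SheafOfModules.IsQuasicoherent.{u, u, u} F) (W : X.Opens) (s : Γ(F, W))
    (h : ∀ (y : X) (hy : y ∈ W), Curv2.IsWeakAssPoint F y → F.presheaf.germ W y hy s = 0) :
    s = 0 := by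
  apply TopCat.Presheaf.section_ext ⟨F.presheaf, F.isSheaf⟩ W s 0
  intro x hx
  rw [map_zero]
  obtain ⟨_, ⟨V, hV, rfl⟩, hxV, hVW⟩ :=
    (X.isBasis_affineOpens).exists_subset_of_mem_open hx W.2
  have hVW' : V ≤ W := hVW
  have hxV' : x ∈ V := hxV
  let m : Γ(F, V) := F.presheaf.map (homOfLE hVW').op s
  have hgerm : ∀ (y : X) (hy : y ∈ V),
      F.presheaf.germ V y hy m = F.presheaf.germ W y (hVW' hy) s :=
    fun y hy => TopCat.Presheaf.germ_res_apply F.presheaf (homOfLE hVW') y hy s
  by_cases hm : m = 0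
  · change F.presheaf.germ W x hx s = 0
    rw [← hgerm x hxV', hm, map_zero]
  · exfalso
    obtain ⟨y, hy, h1, -, h3⟩ := exists_isWeakAssPoint_of_section_ne_zero F hq hV m hm
    apply h1
    rw [hgerm y hy]
    exact h y (hVW' hy) h3

end Groth.Agent.Helper7.FinType
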