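import Mathlib
import Groth.Agent.Lib.Helper7.CohStalk.WeakAss

/-!
# Helper library (helper7): zero modules on schemes
-/

set_option autoImplicit false
open CategoryTheory AlgebraicGeometry Topology TopologicalSpace Limits
universe u
namespace Groth.Agent.Helper7.FinType

/-- a module all of whose groups of sections vanish is a zero object -/
theorem isZero_of_forall_subsingleton {X : Scheme.{u}} (F : X.Modules)
    (h : ∀ U : X.Opens, Subsingleton Γ(F, U)) : IsZero F := by
  rw [IsZero.iff_id_eq_zero]
  apply Scheme.Modules.hom_ext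
  intro U
  ext s
  have := h U
  exact Subsingleton.elim _ _

/-- the sections of a zero module vanish -/
theorem subsingleton_sections_of_isZero {X : Scheme.{u}} (F : X.Modules) (hF : IsZero F)
    (U : X.Opens) : Subsingleton Γ(F, U) := by
  have h1 : 𝟙 F = 0 := hF.eq_of_src _ _
  refine ⟨fun s t => ?_⟩
  suffices h : ∀ s : Γ(F, U), s = 0 by rw [h s, h t]
  intro s
  have h2 : (𝟙 F : F ⟶ F).app U s = (0 : F ⟶ F).app U s := by rw [h1]
  rw [Scheme.Modules.Hom.id_app, Scheme.Modules.Hom.zero_app] at h2
  exact h2

/-- the stalks of a zero module vanish -/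
theorem subsingleton_stalk_of_isZero {X : Scheme.{u}} (F : X.Modules) (hF : IsZero F)
    (x : X) : Subsingleton (F.presheaf.stalk x) := by
  refine ⟨fun a b => ?_⟩
  suffices h : ∀ a : F.presheaf.stalk x, a = 0 by rw [h a, h b]
  intro a
  obtain ⟨U, hxU, s, rfl⟩ := TopCat.Presheaf.exists_germ_eq F.presheaf a
  have := subsingleton_sections_of_isZero F hF U
  rw [Subsingleton.elim s 0, map_zero]

/-- a weakly associated point has a nonzero stalk -/
theorem not_subsingleton_of_isWeakAssPoint {X : Scheme.{u}} (F : X.Modules) (x : X)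
    (h : Curv2.IsWeakAssPoint F x) : ¬ Subsingleton (F.presheaf.stalk x) := by
  intro hs
  obtain ⟨μ, hμ⟩ := h
  have h0 : μ = 0 := Subsingleton.elim _ _
  have htop : LinearMap.ker (LinearMap.toSpanSingleton (X.presheaf.stalk x)
      (F.presheaf.stalk x) μ) = ⊤ := by
    rw [eq_top_iff]
    intro r _
    rw [LinearMap.mem_ker, LinearMap.toSpanSingleton_apply, h0, smul_zero]
  rw [htop, Ideal.radical_top] at hμ
  exact (IsLocalRing.maximalIdeal.isMaximal (X.presheaf.stalk x)).ne_top hμ.symm

/-- a quasi-coherent module is zero iff it has no weakly associated point -/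
theorem isZero_iff_forall_not_isWeakAssPoint {X : Scheme.{u}} (F : X.Modules)
    (hq : SheafOfModules.IsQuasicoherent.{u, u, u} F) :
    IsZero F ↔ ∀ x : X, ¬ Curv2.IsWeakAssPoint F x := by
  constructor
  · intro hF x hx
    exact not_subsingleton_of_isWeakAssPoint F x hx (subsingleton_stalk_of_isZero F hF x)
  · intro h
    apply isZero_of_forall_subsingleton
    intro U
    refine ⟨fun s t => ?_⟩
    suffices h0 : ∀ s : Γ(F, U), s = 0 by rw [h0 s, h0 t]
    intro s
    apply section_eq_zero_of_forall_isWeakAssPoint F hq U s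
    intro y _ hy
    exact absurd hy (h y)

end Groth.Agent.Helper7.FinType
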