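import Mathlib
import Groth.Agent.Lib.Helper7.CohStalk.Zero

/-!
# Helper library (helper7): finiteness of sections of coherent modules and of their associated
points
-/

set_option autoImplicit false
open CategoryTheory AlgebraicGeometry Topology TopologicalSpace Limits
universe u
namespace Groth.Agent.Helper7.FinType


open Scheme.Modules in
set_option backward.isDefEq.respectTransparency false in
/-- a module of finite type has, locally, finite families of generating sections over every small
enough open -/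
theorem exists_generators_of_le {X : Scheme.{u}} (M : X.Modules)
    (hM : SheafOfModules.IsFiniteType.{u, u, u} M) (x : X) :
    ∃ W : X.Opens, x ∈ W ∧ ∀ V : X.Opens, V ≤ W →
      ∃ G : (M.restrict V.ι).GeneratingSections, G.IsFiniteType := by
  obtain ⟨σ, hσ⟩ := hM.exists_localGeneratorsData
  obtain ⟨I, W, cov, gen⟩ := σ
  have hfin : ∀ i, (gen i).IsFiniteType := fun i => hσ.isFiniteType i
  rw [Opens.coversTop_iff] at cov
  obtain ⟨i, hxi⟩ : ∃ i, x ∈ W i := by
    have : x ∈ (⨆ i, W i : X.Opens) := by rw [cov]; trivial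
    simpa [Opens.mem_iSup] using this
  refine ⟨W i, hxi, fun V hV => ?_⟩
  let u := X.homOfLE (U := V) (V := W i) hV
  have : PreservesColimitsOfSize.{u, u} (restrictFunctor u) := inferInstance
  let F := (overEquiv (W i)).functor ⋙ restrictFunctor u
  let iso : SheafOfModules.overFunctor X.ringCatSheaf _ ⋙ F ≅ restrictFunctor
    (Scheme.Opens.ι V) := (Functor.associator _ _ _).symm ≪≫
      Functor.isoWhiskerRight (Scheme.Modules.overFunctorEquiv _) _ ≪≫
      (restrictFunctorComp _ _).symm ≪≫ (restrictFunctorCongr (by simp [u]))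
  have := hfin i
  exact ⟨((gen i).map F (Scheme.Modules.restrictUnitIso _).symm).ofEpi (iso.app M).hom,
    inferInstance⟩

open Scheme.Modules in
/-- auxiliary transport of finiteness of global sections -/
theorem finite_sections_aux {R : CommRingCat.{u}} {X : Scheme.{u}} (j : Spec R ⟶ X)
    [IsOpenImmersion j] (F : X.Modules) (V : X.Opens) (h : j ''ᵁ ⊤ = V)
    (hfin : Module.Finite R Γ(F.restrict j, ⊤)) : Module.Finite Γ(X, V) Γ(F, V) := by
  classical
  subst h
  obtain ⟨S, hS⟩ := hfin.fg_top
  let toX : Γ(F.restrict j, ⊤) → Γ(F, j ''ᵁ ⊤) := fun n => n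
  let P : Submodule Γ(X, j ''ᵁ ⊤) Γ(F, j ''ᵁ ⊤) :=
    Submodule.span _ (toX '' (S : Set Γ(F.restrict j, ⊤)))
  have hall : ∀ n : Γ(F.restrict j, ⊤), toX n ∈ P := by
    intro n
    have hn : n ∈ Submodule.span R (S : Set Γ(F.restrict j, ⊤)) := by rw [hS]; trivial
    induction hn using Submodule.span_induction with
    | mem n hn => exact Submodule.subset_span ⟨n, hn, rfl⟩
    | zero => exact P.zero_mem
    | add a b _ _ ha hb => exact P.add_mem ha hb
    | smul r a _ ha =>
      have : toX (r • a) =
          ((j.appIso ⊤).inv ((Spec R).presheaf.map (⊤ : (Spec R).Opens).leTop.op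
            ((Scheme.ΓSpecIso R).inv r))) • toX a := rfl
      rw [this]
      exact P.smul_mem _ ha
  refine ⟨?_⟩
  have hP : P = ⊤ := by
    rw [eq_top_iff]
    intro n _
    exact hall n
  rw [← hP]
  exact ⟨S.image toX, by simp [P]⟩

open Scheme.Modules in
set_option backward.isDefEq.respectTransparency false in
/-- the sections over an affine open of a quasi-coherent module with finitely many generating
sections form a finite module -/
theorem finite_sections_of_generators {X : Scheme.{u}} (F : X.Modules)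
    (hq : SheafOfModules.IsQuasicoherent.{u, u, u} F) {V : X.Opens} (hV : IsAffineOpen V)
    (G : (F.restrict V.ι).GeneratingSections) [G.IsFiniteType] :
    Module.Finite Γ(X, V) Γ(F, V) := by
  let j : Spec Γ(X, V) ⟶ X := hV.isoSpec.inv ≫ V.ι
  have hj : IsOpenImmersion j := inferInstance
  have hpres : PreservesColimitsOfSize.{u, u} (restrictFunctor hV.isoSpec.inv) := inferInstance
  let G' : (F.restrict j).GeneratingSections :=
    (G.map (restrictFunctor hV.isoSpec.inv) (restrictUnitIso _).symm).ofEpi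
      ((restrictFunctorComp hV.isoSpec.inv V.ι).app F).inv
  have hG' : G'.IsFiniteType := inferInstance
  have hqc' : SheafOfModules.IsQuasicoherent.{u, u, u} (F.restrict j) :=
    Scheme.Modules.isQuasicoherent_restrictFunctor j F
  have h1 : Module.Finite Γ(X, V) Γ(F.restrict j, ⊤) := finite_Γ_of_generators (F.restrict j) G'
  have h : j ''ᵁ ⊤ = V := by
    change hV.fromSpec ''ᵁ ⊤ = V
    rw [Scheme.Hom.image_top_eq_opensRange, hV.opensRange_fromSpec]
  exact finite_sections_aux j F V h h1

/-- Algebra: transfer of a weakly associated maximal ideal of a localization at a prime `p` to a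
minimal prime over the annihilator of a preimage. -/
theorem mem_minimalPrimes_ann_of_radical_eq {R S M N : Type*} [CommRing R] [CommRing S]
    [Algebra R S] (p : Ideal R) [p.IsPrime] [IsLocalization.AtPrime S p] [IsLocalRing S]
    [AddCommGroup M] [Module R M] [AddCommGroup N] [Module S N]
    (ψ : M →+ N) (hψ : ∀ (r : R) (m : M), ψ (r • m) = algebraMap R S r • ψ m)
    (hker : ∀ m : M, ψ m = 0 → ∃ g ∉ p, g • m = 0)
    (n : M) (hrad : ∀ t : S, t ∈ IsLocalRing.maximalIdeal S ↔ ∃ k : ℕ, t ^ k • ψ n = 0) :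
    p ∈ Ideal.minimalPrimes (LinearMap.ker (LinearMap.toSpanSingleton R M n)) := by
  have hI : ∀ a : R, a ∈ LinearMap.ker (LinearMap.toSpanSingleton R M n) ↔ a • n = 0 := fun a => by
    rw [LinearMap.mem_ker, LinearMap.toSpanSingleton_apply]
  have hunit : ∀ r : R, r ∉ p → IsUnit (algebraMap R S r) := fun r hr =>
    IsLocalization.map_units S (⟨r, hr⟩ : p.primeCompl)
  have hψn : ψ n ≠ 0 := by
    intro h0
    have : (1 : S) ∈ IsLocalRing.maximalIdeal S := (hrad 1).mpr ⟨1, by rw [h0, smul_zero]⟩
    exact (IsLocalRing.maximalIdeal.isMaximal S).ne_top ((Ideal.eq_top_iff_one _).mpr this)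
  have hcancel : ∀ (c : S), IsUnit c → ∀ v : N, c • v = 0 → v = 0 := by
    rintro _ ⟨c, rfl⟩ v hv
    have := congrArg (fun t => (↑c⁻¹ : S) • t) hv
    simpa [smul_smul] using this
  refine ⟨⟨inferInstance, ?_⟩, ?_⟩
  · intro a ha
    by_contra hap
    have h1 : algebraMap R S a • ψ n = 0 := by rw [← hψ, (hI a).mp ha, map_zero]
    exact hψn (hcancel _ (hunit a hap) _ h1)
  · rintro q ⟨hqp, hIq⟩ hqle
    -- the extension of `q` to `S`
    have hdisj : Disjoint (p.primeCompl : Set R) (q : Set R) := by
      rw [Set.disjoint_left]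
      intro r hr hrq
      exact hr (hqle hrq)
    have hQp : (Ideal.map (algebraMap R S) q).IsPrime :=
      IsLocalization.isPrime_of_isPrime_disjoint p.primeCompl S q hqp hdisj
    have hcomap : Ideal.comap (algebraMap R S) (Ideal.map (algebraMap R S) q) = q :=
      IsLocalization.under_map_of_isPrime_disjoint p.primeCompl S hqp hdisj
    -- the maximal ideal is contained in the extension
    have hle : IsLocalRing.maximalIdeal S ≤ Ideal.map (algebraMap R S) q := by
      intro t ht
      obtain ⟨k, hk⟩ := (hrad t).mp ht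
      apply hQp.mem_of_pow_mem k
      -- `t ^ k` kills `ψ n`, hence lies in the extension of `q`
      obtain ⟨⟨a, f⟩, haf⟩ := IsLocalization.surj p.primeCompl (t ^ k)
      have haf' : t ^ k * algebraMap R S f.1 = algebraMap R S a := haf
      have h1 : algebraMap R S a • ψ n = 0 := by
        rw [← haf', mul_comm, mul_smul, hk, smul_zero]
      rw [← hψ] at h1
      obtain ⟨g, hg, hgn⟩ := hker _ h1
      have hga : g * a ∈ q := hIq ((hI _).mpr (by rw [mul_smul]; exact hgn))
      have haq : a ∈ q := by
        rcases hqp.mem_or_mem hga with h | h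
        · exact absurd (hqle h) hg
        · exact h
      have h2 : algebraMap R S a ∈ Ideal.map (algebraMap R S) q := Ideal.mem_map_of_mem _ haq
      rw [← haf'] at h2
      rcases hQp.mem_or_mem h2 with h | h
      · exact h
      · exact absurd (Ideal.eq_top_of_isUnit_mem _ h (hunit f.1 f.2)) hQp.ne_top
    intro r hr
    have h3 : algebraMap R S r ∈ IsLocalRing.maximalIdeal S :=
      (IsLocalization.AtPrime.to_map_mem_maximal_iff S p r).mpr hr
    have h4 := hle h3
    rw [← hcomap]
    exact h4


/-- an associated point of a quasi-coherent module lying in an affine open `V` with Noetherian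
ring of functions and finite module of sections gives an associated prime of the sections -/
theorem primeIdealOf_mem_associatedPrimes {X : Scheme.{u}} (F : X.Modules)
    (hq : SheafOfModules.IsQuasicoherent.{u, u, u} F) {V : X.Opens} (hV : IsAffineOpen V)
    [IsNoetherianRing Γ(X, V)] [Module.Finite Γ(X, V) Γ(F, V)] (x : X) (hx : x ∈ V)
    (hass : Curv2.IsWeakAssPoint F x) :
    (hV.primeIdealOf ⟨x, hx⟩).asIdeal ∈ associatedPrimes Γ(X, V) Γ(F, V) := by
  obtain ⟨μ, hμ⟩ := hass
  obtain ⟨n, h, hh, hn⟩ := exists_germ_smul_eq F hq hV x hx μ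
  let _ : Algebra Γ(X, V) (X.presheaf.stalk x) :=
    TopCat.Presheaf.algebra_section_stalk X.presheaf (⟨x, hx⟩ : V)
  have hloc : IsLocalization.AtPrime (X.presheaf.stalk x) (hV.primeIdealOf ⟨x, hx⟩).asIdeal :=
    hV.isLocalization_stalk ⟨x, hx⟩
  have hmin := mem_minimalPrimes_ann_of_radical_eq (R := Γ(X, V)) (S := X.presheaf.stalk x)
    (M := Γ(F, V)) (N := F.presheaf.stalk x) (hV.primeIdealOf ⟨x, hx⟩).asIdeal
    (F.presheaf.germ V x hx).hom
    (fun r m => germ_smul F x V hx r m)
    (fun m hm => by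
      obtain ⟨g, hg, hgm⟩ := exists_smul_eq_zero_of_germ_eq_zero F hq hV x hx m hm
      exact ⟨g, (notMem_primeIdealOf_iff hV x hx g).mpr hg, hgm⟩)
    n
    (fun t => by
      rw [← hμ]
      constructor
      · rintro ⟨k, hk⟩
        rw [LinearMap.mem_ker, LinearMap.toSpanSingleton_apply] at hk
        refine ⟨k, ?_⟩
        change t ^ k • F.presheaf.germ V x hx n = 0
        rw [← hn, smul_comm, hk, smul_zero]
      · rintro ⟨k, hk⟩
        refine ⟨k, ?_⟩
        rw [LinearMap.mem_ker, LinearMap.toSpanSingleton_apply]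
        have hk' : t ^ k • F.presheaf.germ V x hx n = 0 := hk
        rw [← hn, smul_comm] at hk'
        exact eq_zero_of_isUnit_smul_eq_zero hh hk')
  rw [← Submodule.annihilator_span_singleton] at hmin
  have h1 := Module.associatedPrimes.minimalPrimes_annihilator_subset_associatedPrimes
    Γ(X, V) ↥(Submodule.span Γ(X, V) {n}) hmin
  exact associatedPrimes.subset_of_injective (f := (Submodule.span Γ(X, V) {n}).subtype)
    Subtype.val_injective h1

/-- finitely many weakly associated points in an affine open with Noetherian functions and finite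
sections -/
theorem finite_isWeakAssPoint_affine {X : Scheme.{u}} (F : X.Modules)
    (hq : SheafOfModules.IsQuasicoherent.{u, u, u} F) {V : X.Opens} (hV : IsAffineOpen V)
    [IsNoetherianRing Γ(X, V)] [Module.Finite Γ(X, V) Γ(F, V)] :
    {x : X | x ∈ V ∧ Curv2.IsWeakAssPoint F x}.Finite := by
  classical
  let f : X → Ideal Γ(X, V) := fun y =>
    if h : y ∈ V then (hV.primeIdealOf ⟨y, h⟩).asIdeal else ⊥
  have himg : f '' {x : X | x ∈ V ∧ Curv2.IsWeakAssPoint F x} ⊆ associatedPrimes Γ(X, V) Γ(F, V) := by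
    rintro _ ⟨y, ⟨hyV, hy⟩, rfl⟩
    simp only [f, hyV, dif_pos]
    exact primeIdealOf_mem_associatedPrimes F hq hV y hyV hy
  have hfin : (f '' {x : X | x ∈ V ∧ Curv2.IsWeakAssPoint F x}).Finite :=
    (associatedPrimes.finite Γ(X, V) Γ(F, V)).subset himg
  refine Set.Finite.of_finite_image hfin ?_
  rintro y1 ⟨h1, -⟩ y2 ⟨h2, -⟩ he
  simp only [f, h1, h2, dif_pos] at he
  have he' : hV.primeIdealOf ⟨y1, h1⟩ = hV.primeIdealOf ⟨y2, h2⟩ := PrimeSpectrum.ext he
  have e1 := hV.fromSpec_primeIdealOf ⟨y1, h1⟩
  have e2 := hV.fromSpec_primeIdealOf ⟨y2, h2⟩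
  rw [he'] at e1
  exact e1.symm.trans e2

/-- the (weakly) associated points of a coherent module on a locally Noetherian scheme lying in a
quasi-compact open form a finite set -/
theorem finite_isWeakAssPoint_of_isCompact {X : Scheme.{u}} [IsLocallyNoetherian X]
    (F : X.Modules) (hF : Coh.IsCoh F) (U : X.Opens) (hU : IsCompact (U : Set X)) :
    {x : X | x ∈ U ∧ Curv2.IsWeakAssPoint F x}.Finite := by
  classical
  obtain ⟨hq, hft⟩ := hF
  -- small affine neighbourhoods
  have hloc : ∀ x : U, ∃ V : X.Opens, IsAffineOpen V ∧ x.1 ∈ V ∧ V ≤ U ∧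
      ∃ G : (F.restrict V.ι).GeneratingSections, G.IsFiniteType := by
    intro x
    obtain ⟨W, hxW, hW⟩ := exists_generators_of_le F hft x.1
    obtain ⟨_, ⟨V, hV, rfl⟩, hxV, hVW⟩ :=
      (X.isBasis_affineOpens).exists_subset_of_mem_open (⟨hxW, x.2⟩ : x.1 ∈ ((W ⊓ U : X.Opens) : Set X))
        (W ⊓ U).2
    have hVW' : V ≤ W ⊓ U := hVW
    exact ⟨V, hV, hxV, hVW'.trans inf_le_right, hW V (hVW'.trans inf_le_left)⟩
  choose V hVaff hxV hVU hG using hloc
  obtain ⟨t, ht⟩ := hU.elim_finite_subcover (fun x : U => ((V x : X.Opens) : Set X))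
    (fun x => (V x).2) (fun y hy => Set.mem_iUnion.mpr ⟨⟨y, hy⟩, hxV ⟨y, hy⟩⟩)
  have hsub : {x : X | x ∈ U ∧ Curv2.IsWeakAssPoint F x} ⊆
      ⋃ i ∈ t, {x : X | x ∈ V i ∧ Curv2.IsWeakAssPoint F x} := by
    rintro y ⟨hyU, hy⟩
    have := ht hyU
    simp only [Set.mem_iUnion, exists_prop] at this ⊢
    obtain ⟨i, hit, hyi⟩ := this
    exact ⟨i, hit, hyi, hy⟩
  refine Set.Finite.subset ?_ hsub
  refine Set.Finite.biUnion t.finite_toSet ?_
  intro i _
  obtain ⟨G, hGf⟩ := hG i
  have : IsNoetherianRing Γ(X, V i) := IsLocallyNoetherian.component_noetherian ⟨V i, hVaff i⟩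
  have : Module.Finite Γ(X, V i) Γ(F, V i) := finite_sections_of_generators F hq (hVaff i) G
  exact finite_isWeakAssPoint_affine F hq (hVaff i)

end Groth.Agent.Helper7.FinType
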