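import Mathlib
import Groth.Agent.Lib.Helper7.CohStalk.FiniteAss

/-!
# Helper library (helper7): weakly associated points of the sheaf associated to a module on an
affine scheme versus weakly associated primes of the module
-/

set_option autoImplicit false
open CategoryTheory AlgebraicGeometry Topology TopologicalSpace Limits
universe u
namespace Groth.Agent.Helper7.FinType

/-- an element of a prime minimal over `I` has a power lying in `I` up to a factor outside the
prime -/
theorem exists_notMem_mul_pow_mem_of_mem_minimalPrimes {R : Type*} [CommRing R] {I p : Ideal R}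
    (hp : p ∈ I.minimalPrimes) {a : R} (ha : a ∈ p) : ∃ g ∉ p, ∃ k : ℕ, g * a ^ k ∈ I := by
  have hpp : p.IsPrime := hp.1.1
  have hrad := IsLocalization.AtPrime.radical_map_of_mem_minimalPrimes
    (A := Localization.AtPrime p) p I hp
  have h1 : algebraMap R (Localization.AtPrime p) a ∈
      (I.map (algebraMap R (Localization.AtPrime p))).radical := by
    rw [hrad]
    exact Ideal.mem_map_of_mem _ ha
  obtain ⟨k, hk⟩ := h1
  rw [← map_pow, IsLocalization.mem_map_algebraMap_iff (M := p.primeCompl)] at hk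
  obtain ⟨⟨i, s⟩, hk⟩ := hk
  rw [← map_mul, IsLocalization.eq_iff_exists p.primeCompl] at hk
  obtain ⟨t, ht⟩ := hk
  refine ⟨t.1 * s.1, ?_, k, ?_⟩
  · exact (t * s).2
  · have : t.1 * s.1 * a ^ k = t.1 * i.1 := by
      rw [← ht]; ring
    rw [this]
    exact I.mul_mem_left _ i.2

/-- a finitely generated prime minimal over the annihilator of an element is the radical of the
annihilator of a multiple of that element -/
theorem isAssociatedPrime_of_mem_minimalPrimes_of_fg {R M : Type*} [CommRing R] [AddCommGroup M]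
    [Module R M] (p : Ideal R) (hfg : p.FG) (m : M)
    (hp : p ∈ Ideal.minimalPrimes (LinearMap.ker (LinearMap.toSpanSingleton R M m))) :
    IsAssociatedPrime p M := by
  classical
  have hpp : p.IsPrime := hp.1.1
  have hI : ∀ a : R, a ∈ LinearMap.ker (LinearMap.toSpanSingleton R M m) ↔ a • m = 0 := fun a => by
    rw [LinearMap.mem_ker, LinearMap.toSpanSingleton_apply]
  obtain ⟨s, hs⟩ := hfg
  have hsp : ∀ a ∈ s, a ∈ p := fun a ha => hs ▸ Ideal.subset_span ha
  choose! g hg k hk using fun a (ha : a ∈ s) =>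
    exists_notMem_mul_pow_mem_of_mem_minimalPrimes hp (hsp a ha)
  let G : R := ∏ a ∈ s, g a
  have hG : G ∉ p := by
    intro h
    obtain ⟨a, has, ha⟩ := (Ideal.IsPrime.prod_mem_iff (hp := hpp)).mp h
    exact hg a has ha
  refine ⟨hpp, G • m, ?_⟩
  apply le_antisymm
  · rw [← hs, Ideal.span_le]
    intro a ha
    refine ⟨k a, ?_⟩
    rw [Submodule.mem_colon_singleton, Submodule.mem_bot]
    have h1 : (g a * a ^ k a) • m = 0 := (hI _).mp (hk a ha)
    have h2 : G = (∏ b ∈ s.erase a, g b) * g a := (Finset.prod_erase_mul s g ha).symm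
    rw [h2, smul_smul]
    have : a ^ k a * ((∏ b ∈ s.erase a, g b) * g a) = (∏ b ∈ s.erase a, g b) * (g a * a ^ k a) := by
      ring
    rw [this, mul_smul, h1, smul_zero]
  · rintro a ⟨j, hj⟩
    rw [Submodule.mem_colon_singleton, Submodule.mem_bot, smul_smul] at hj
    have h1 : a ^ j * G ∈ p := hp.1.2 ((hI _).mpr hj)
    rcases hpp.mem_or_mem h1 with h | h
    · exact hpp.mem_of_pow_mem j h
    · exact absurd h hG

/-- an associated prime (radical of an annihilator) is minimal over that annihilator -/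
theorem exists_mem_minimalPrimes_of_isAssociatedPrime {R M : Type*} [CommRing R] [AddCommGroup M]
    [Module R M] (p : Ideal R) (hp : IsAssociatedPrime p M) :
    ∃ m : M, p ∈ Ideal.minimalPrimes (LinearMap.ker (LinearMap.toSpanSingleton R M m)) := by
  obtain ⟨hpp, m, hm⟩ := hp
  refine ⟨m, ?_⟩
  have hI : (LinearMap.ker (LinearMap.toSpanSingleton R M m)) = Submodule.colon ⊥ {m} := by
    ext a
    rw [LinearMap.mem_ker, LinearMap.toSpanSingleton_apply, Submodule.mem_colon_singleton,
      Submodule.mem_bot]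
  rw [hI]
  have hle : Submodule.colon (⊥ : Submodule R M) {m} ≤ p := hm ▸ Ideal.le_radical
  refine ⟨⟨hpp, hle⟩, ?_⟩
  rintro q ⟨hq, hIq⟩ _
  rw [hm]
  exact (Ideal.IsPrime.radical_le_iff hq).mpr hIq

/-- Algebra: a prime `p` minimal over the annihilator of `n` gives, in the localization at `p`, an
element whose annihilator has radical the maximal ideal. -/
theorem radical_ann_eq_of_mem_minimalPrimes {R S M N : Type*} [CommRing R] [CommRing S]
    [Algebra R S] (p : Ideal R) [p.IsPrime] [IsLocalization.AtPrime S p] [IsLocalRing S]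
    [AddCommGroup M] [Module R M] [AddCommGroup N] [Module S N]
    (ψ : M →+ N) (hψ : ∀ (r : R) (m : M), ψ (r • m) = algebraMap R S r • ψ m)
    (hker : ∀ m : M, ψ m = 0 → ∃ g ∉ p, g • m = 0)
    (n : M) (hmin : p ∈ Ideal.minimalPrimes (LinearMap.ker (LinearMap.toSpanSingleton R M n))) :
    Ideal.radical (LinearMap.ker (LinearMap.toSpanSingleton S N (ψ n))) =
      IsLocalRing.maximalIdeal S := by
  have hI : ∀ a : R, a ∈ LinearMap.ker (LinearMap.toSpanSingleton R M n) ↔ a • n = 0 := fun a => by
    rw [LinearMap.mem_ker, LinearMap.toSpanSingleton_apply]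
  have hJ : ∀ t : S, t ∈ LinearMap.ker (LinearMap.toSpanSingleton S N (ψ n)) ↔ t • ψ n = 0 :=
    fun a => by rw [LinearMap.mem_ker, LinearMap.toSpanSingleton_apply]
  obtain ⟨⟨hpp, hple⟩, hpmin⟩ := hmin
  have hψn : ψ n ≠ 0 := by
    intro h0
    obtain ⟨g, hg, hgn⟩ := hker n h0
    exact hg (hple ((hI g).mpr hgn))
  have hne : LinearMap.ker (LinearMap.toSpanSingleton S N (ψ n)) ≠ ⊤ := by
    intro htop
    have : (1 : S) ∈ LinearMap.ker (LinearMap.toSpanSingleton S N (ψ n)) := by
      rw [htop]; trivial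
    rw [hJ, one_smul] at this
    exact hψn this
  apply le_antisymm
  · have h1 : LinearMap.ker (LinearMap.toSpanSingleton S N (ψ n)) ≤ IsLocalRing.maximalIdeal S :=
      IsLocalRing.le_maximalIdeal hne
    exact (Ideal.IsPrime.radical_le_iff (IsLocalRing.maximalIdeal.isMaximal S).isPrime).mpr h1
  · rw [Ideal.radical_eq_sInf]
    refine le_sInf ?_
    rintro Q ⟨hIQ, hQ⟩
    have hq : (Ideal.comap (algebraMap R S) Q).IsPrime := Ideal.comap_isPrime _ _
    have hqI : LinearMap.ker (LinearMap.toSpanSingleton R M n) ≤ Ideal.comap (algebraMap R S) Q := by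
      intro a ha
      rw [Ideal.mem_comap]
      apply hIQ
      rw [hJ, ← hψ, (hI a).mp ha, map_zero]
    have hqp : Ideal.comap (algebraMap R S) Q ≤ p := by
      have h1 : Q ≤ IsLocalRing.maximalIdeal S := IsLocalRing.le_maximalIdeal hQ.ne_top
      have h2 : Ideal.comap (algebraMap R S) Q ≤ Ideal.under R (IsLocalRing.maximalIdeal S) :=
        Ideal.comap_mono (f := algebraMap R S) h1
      rwa [IsLocalization.AtPrime.under_maximalIdeal S p] at h2
    have hpq : p ≤ Ideal.comap (algebraMap R S) Q := hpmin ⟨hq, hqI⟩ hqp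
    rw [← IsLocalization.AtPrime.map_eq_maximalIdeal p S]
    exact Ideal.map_le_iff_le_comap.mpr hpq

/-- Algebra: weakly associated maximal ideal of a localization versus weakly associated primes. -/
theorem exists_radical_ann_eq_iff {R S M N : Type*} [CommRing R] [CommRing S]
    [Algebra R S] (p : Ideal R) [p.IsPrime] [IsLocalization.AtPrime S p] [IsLocalRing S]
    [AddCommGroup M] [Module R M] [AddCommGroup N] [Module S N]
    (ψ : M →+ N) (hψ : ∀ (r : R) (m : M), ψ (r • m) = algebraMap R S r • ψ m)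
    (hker : ∀ m : M, ψ m = 0 → ∃ g ∉ p, g • m = 0)
    (hsurj : ∀ μ : N, ∃ (m : M) (u : S), IsUnit u ∧ u • μ = ψ m) :
    (∃ μ : N, Ideal.radical (LinearMap.ker (LinearMap.toSpanSingleton S N μ)) =
      IsLocalRing.maximalIdeal S) ↔
    ∃ m : M, p ∈ Ideal.minimalPrimes (LinearMap.ker (LinearMap.toSpanSingleton R M m)) := by
  constructor
  · rintro ⟨μ, hμ⟩
    obtain ⟨m, u, hu, hum⟩ := hsurj μ
    refine ⟨m, mem_minimalPrimes_ann_of_radical_eq p ψ hψ hker m (fun t => ?_)⟩
    rw [← hμ]
    constructor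
    · rintro ⟨k, hk⟩
      rw [LinearMap.mem_ker, LinearMap.toSpanSingleton_apply] at hk
      refine ⟨k, ?_⟩
      rw [← hum, smul_comm, hk, smul_zero]
    · rintro ⟨k, hk⟩
      refine ⟨k, ?_⟩
      rw [LinearMap.mem_ker, LinearMap.toSpanSingleton_apply]
      rw [← hum, smul_comm] at hk
      exact eq_zero_of_isUnit_smul_eq_zero hu hk
  · rintro ⟨m, hm⟩
    exact ⟨ψ m, radical_ann_eq_of_mem_minimalPrimes p ψ hψ hker m hm⟩

open Scheme.Modules in
/-- the canonical additive map from a module to the stalk of its associated sheaf -/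
noncomputable def tildeToStalk {A : CommRingCat.{u}} (M : ModuleCat.{u} A) (p : Spec A) :
    M →+ (tilde M).presheaf.stalk p :=
  ((tilde M).presheaf.germ ⊤ p trivial).hom.comp (tilde.toOpen M ⊤).hom.toAddMonoidHom

open Scheme.Modules in
theorem tildeToStalk_smul {A : CommRingCat.{u}} (M : ModuleCat.{u} A) (p : Spec A) (a : A) (m : M) :
    tildeToStalk M p (a • m) =
      (Spec A).presheaf.germ ⊤ p trivial ((Scheme.ΓSpecIso A).inv a) • tildeToStalk M p m := by
  have h1 : (tilde.toOpen M ⊤).hom (a • m) = a • (tilde.toOpen M ⊤).hom m := map_smul _ _ _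
  change (tilde M).presheaf.germ ⊤ p trivial ((tilde.toOpen M ⊤).hom (a • m)) = _
  rw [h1]
  exact germ_smul_Spec (tilde M) p ⊤ trivial a _

open Scheme.Modules in
theorem tildeToStalk_eq_zero {A : CommRingCat.{u}} (M : ModuleCat.{u} A) (p : Spec A) (m : M)
    (hm : tildeToStalk M p m = 0) : ∃ g ∉ p.asIdeal, g • m = 0 := by
  obtain ⟨f, hpf, hf⟩ := exists_smul_eq_zero_of_germ_eq_zero_Spec (tilde M) p
    ((tilde.toOpen M ⊤).hom m) hm
  refine ⟨f, hpf, ?_⟩
  have h1 : (tilde.toOpen M ⊤).hom (f • m) = f • (tilde.toOpen M ⊤).hom m := map_smul _ _ _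
  have h2 : (tilde.toOpen M ⊤).hom (f • m) = 0 := h1.trans hf
  have hinj : Function.Injective (tilde.toOpen M ⊤).hom :=
    ((ModuleCat.mono_iff_injective _).mp inferInstance)
  exact hinj (h2.trans (map_zero _).symm)

open Scheme.Modules in
theorem tildeToStalk_surj {A : CommRingCat.{u}} (M : ModuleCat.{u} A) (p : Spec A)
    (μ : (tilde M).presheaf.stalk p) :
    ∃ (m : M) (f : A), f ∉ p.asIdeal ∧
      (Spec A).presheaf.germ ⊤ p trivial ((Scheme.ΓSpecIso A).inv f) • μ = tildeToStalk M p m := by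
  obtain ⟨n, f, hpf, hf⟩ := exists_germ_smul_eq_Spec (tilde M) p μ
  have hsurj : Function.Surjective (tilde.toOpen M ⊤).hom :=
    ((ModuleCat.epi_iff_surjective _).mp inferInstance)
  obtain ⟨m, rfl⟩ := hsurj n
  exact ⟨m, f, hpf, hf⟩

open Scheme.Modules in
/-- weakly associated points of `M~` on `Spec A` are the weakly associated primes of `M` -/
theorem isWeakAssPoint_tilde_iff {A : CommRingCat.{u}} (M : ModuleCat.{u} A) (p : Spec A) :
    Curv2.IsWeakAssPoint (tilde M) p ↔
      ∃ m : M, p.asIdeal ∈ Ideal.minimalPrimes (LinearMap.ker (LinearMap.toSpanSingleton A M m)) := by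
  let _ : Algebra A ((Spec A).presheaf.stalk p) := StructureSheaf.stalkAlgebra A p
  have hloc : IsLocalization.AtPrime ((Spec A).presheaf.stalk p) p.asIdeal :=
    StructureSheaf.IsLocalization.to_stalk A p
  have halg : ∀ a : A, algebraMap A ((Spec A).presheaf.stalk p) a =
      (Spec A).presheaf.germ ⊤ p trivial ((Scheme.ΓSpecIso A).inv a) := fun a => rfl
  refine exists_radical_ann_eq_iff (R := A) (S := (Spec A).presheaf.stalk p) (M := M)
    (N := (tilde M).presheaf.stalk p) p.asIdeal (tildeToStalk M p) ?_ ?_ ?_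
  · intro a m
    rw [halg]
    exact tildeToStalk_smul M p a m
  · exact tildeToStalk_eq_zero M p
  · intro μ
    obtain ⟨m, f, hf, h⟩ := tildeToStalk_surj M p μ
    refine ⟨m, _, ?_, h⟩
    rw [← halg]
    exact IsLocalization.map_units _ (⟨f, hf⟩ : p.asIdeal.primeCompl)

end Groth.Agent.Helper7.FinType
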