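import Mathlib
import Groth.Agent.Lib.Helper7.CohStalk.Tilde

/-!
# Helper library (helper7): sections of quasi-coherent modules over basic opens, and stalks and
weakly associated points of direct images along affine morphisms
-/

set_option autoImplicit false
open CategoryTheory AlgebraicGeometry Topology TopologicalSpace Limits
universe u
namespace Groth.Agent.Helper7.FinType

/-- a section of a quasi-coherent module over an affine open which vanishes on a basic open is killed
by a power of the function -/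
theorem exists_pow_smul_eq_zero_of_res_eq_zero {X : Scheme.{u}} (M : X.Modules)
    (hq : SheafOfModules.IsQuasicoherent.{u, u, u} M) {U : X.Opens} (hU : IsAffineOpen U)
    (b : Γ(X, U)) (W : X.Opens) (hWU : W ≤ U) (hW : W = X.basicOpen b) (n : Γ(M, U))
    (hn : M.presheaf.map (homOfLE hWU).op n = 0) : ∃ k : ℕ, b ^ k • n = 0 := by
  have hI : ∀ a : Γ(X, U), a ∈ LinearMap.ker (LinearMap.toSpanSingleton Γ(X, U) Γ(M, U) n) ↔
      a • n = 0 := fun a => by
    rw [LinearMap.mem_ker, LinearMap.toSpanSingleton_apply]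
  have hb : b ∈ Ideal.radical (LinearMap.ker (LinearMap.toSpanSingleton Γ(X, U) Γ(M, U) n)) := by
    rw [Ideal.radical_eq_sInf, Ideal.mem_sInf]
    rintro P ⟨hIP, hP⟩
    by_contra hbP
    let y : PrimeSpectrum Γ(X, U) := ⟨P, hP⟩
    have hxU : hU.fromSpec y ∈ U := by
      have : hU.fromSpec y ∈ Set.range hU.fromSpec := ⟨y, rfl⟩
      rwa [hU.range_fromSpec] at this
    have hunit : IsUnit (X.presheaf.germ U (hU.fromSpec y) hxU b) :=
      (notMem_asIdeal_iff_isUnit_germ hU y hxU b).mp hbP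
    have hxW : hU.fromSpec y ∈ W := by
      rw [hW, X.mem_basicOpen b _ hxU]; exact hunit
    have hgerm : M.presheaf.germ U (hU.fromSpec y) hxU n = 0 := by
      rw [← TopCat.Presheaf.germ_res_apply M.presheaf (homOfLE hWU) (hU.fromSpec y) hxW n, hn,
        map_zero]
    obtain ⟨f, hf, hfn⟩ := exists_smul_eq_zero_of_germ_eq_zero M hq hU _ hxU n hgerm
    exact (notMem_asIdeal_iff_isUnit_germ hU y hxU f).mpr hf (hIP ((hI f).mpr hfn))
  obtain ⟨k, hk⟩ := hb
  exact ⟨k, (hI _).mp hk⟩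

open Scheme.Modules in
/-- auxiliary form: sections over a basic open are fractions of sections over the whole affine -/
theorem exists_pow_smul_eq_res_aux {R : CommRingCat.{u}} {X : Scheme.{u}} (j : Spec R ⟶ X)
    [IsOpenImmersion j] (M : X.Modules) (hq : SheafOfModules.IsQuasicoherent.{u, u, u} M) (r : R)
    (m : Γ(M, j ''ᵁ (PrimeSpectrum.basicOpen r))) :
    ∃ (k : ℕ) (n : Γ(M, j ''ᵁ ⊤)),
      ((j.appIso (PrimeSpectrum.basicOpen r)).inv
        ((Spec R).presheaf.map (PrimeSpectrum.basicOpen r).leTop.op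
          ((Scheme.ΓSpecIso R).inv r))) ^ k • m =
      M.presheaf.map (j.opensFunctor.map (PrimeSpectrum.basicOpen r).leTop).op n := by
  have hq' : SheafOfModules.IsQuasicoherent.{u, u, u} (M.restrict j) :=
    Scheme.Modules.isQuasicoherent_restrictFunctor j M
  let m' : Γ(M.restrict j, PrimeSpectrum.basicOpen r) := m
  obtain ⟨k, n, hn⟩ := exists_pow_smul_eq_res (M.restrict j) r m'
  refine ⟨k, n, ?_⟩
  have h1 : r ^ k • m' = ((j.appIso (PrimeSpectrum.basicOpen r)).inv
        ((Spec R).presheaf.map (PrimeSpectrum.basicOpen r).leTop.op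
          ((Scheme.ΓSpecIso R).inv (r ^ k)))) • m := rfl
  rw [map_pow, map_pow, map_pow] at h1
  rw [← h1, hn]
  rfl

/-- the coordinate function of an affine open seen through `fromSpec` -/
theorem appIso_inv_fromSpec {X : Scheme.{u}} {U : X.Opens} (hU : IsAffineOpen U) (b : Γ(X, U))
    (W₀ : (Spec Γ(X, U)).Opens) (h : hU.fromSpec ''ᵁ W₀ ≤ U) :
    (hU.fromSpec.appIso W₀).inv ((Spec Γ(X, U)).presheaf.map W₀.leTop.op
      ((Scheme.ΓSpecIso Γ(X, U)).inv b)) = X.presheaf.map (homOfLE h).op b := by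
  have key : X.presheaf.map (homOfLE h).op ≫ (hU.fromSpec.appIso W₀).hom =
      (Scheme.ΓSpecIso Γ(X, U)).inv ≫ (Spec Γ(X, U)).presheaf.map W₀.leTop.op := by
    rw [Scheme.Hom.appIso_hom', Scheme.Hom.map_appLE, Scheme.Hom.appLE, hU.fromSpec_app_self,
      Category.assoc, ← Functor.map_comp]
    rfl
  have h2 := ConcreteCategory.congr_hom key b
  rw [ConcreteCategory.comp_apply, ConcreteCategory.comp_apply] at h2
  rw [← h2, ← ConcreteCategory.comp_apply, Iso.hom_inv_id]
  rfl

/-- sections of a quasi-coherent module over a basic open of an affine open are fractions of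
sections over the affine open -/
theorem exists_pow_smul_eq_res_of_isAffineOpen {X : Scheme.{u}} (M : X.Modules)
    (hq : SheafOfModules.IsQuasicoherent.{u, u, u} M) {U : X.Opens} (hU : IsAffineOpen U)
    (b : Γ(X, U)) (W : X.Opens) (hWU : W ≤ U) (hW : W = X.basicOpen b) (m : Γ(M, W)) :
    ∃ (k : ℕ) (n : Γ(M, U)),
      (X.presheaf.map (homOfLE hWU).op b) ^ k • m = M.presheaf.map (homOfLE hWU).op n := by
  have hW' : W = hU.fromSpec ''ᵁ (PrimeSpectrum.basicOpen b) :=
    hW.trans (hU.fromSpec_image_basicOpen b).symm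
  subst hW'
  obtain ⟨k, n, hn⟩ := exists_pow_smul_eq_res_aux hU.fromSpec M hq b m
  rw [appIso_inv_fromSpec hU b _ hWU] at hn
  have hU' : U ≤ hU.fromSpec ''ᵁ ⊤ := by
    rw [Scheme.Hom.image_top_eq_opensRange, hU.opensRange_fromSpec]
  refine ⟨k, M.presheaf.map (homOfLE hU').op n, ?_⟩
  rw [hn, ← ConcreteCategory.comp_apply, ← Functor.map_comp]
  rfl

/-- weakly associated points via sections over an affine open, for any module whose stalk at the
point is the localization of the sections -/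
theorem isWeakAssPoint_iff_of_localizing {S : Scheme.{u}} (G : S.Modules) {V : S.Opens}
    (hV : IsAffineOpen V) (s : S) (hs : s ∈ V)
    (T1 : ∀ μ : G.presheaf.stalk s, ∃ (n : Γ(G, V)) (a : Γ(S, V)),
      IsUnit (S.presheaf.germ V s hs a) ∧ S.presheaf.germ V s hs a • μ = G.presheaf.germ V s hs n)
    (T2 : ∀ n : Γ(G, V), G.presheaf.germ V s hs n = 0 →
      ∃ a : Γ(S, V), IsUnit (S.presheaf.germ V s hs a) ∧ a • n = 0) :
    Curv2.IsWeakAssPoint G s ↔ ∃ n : Γ(G, V), (hV.primeIdealOf ⟨s, hs⟩).asIdeal ∈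
      Ideal.minimalPrimes (LinearMap.ker (LinearMap.toSpanSingleton Γ(S, V) Γ(G, V) n)) := by
  let _ : Algebra Γ(S, V) (S.presheaf.stalk s) :=
    TopCat.Presheaf.algebra_section_stalk S.presheaf (⟨s, hs⟩ : V)
  have hloc : IsLocalization.AtPrime (S.presheaf.stalk s) (hV.primeIdealOf ⟨s, hs⟩).asIdeal :=
    hV.isLocalization_stalk ⟨s, hs⟩
  refine exists_radical_ann_eq_iff (R := Γ(S, V)) (S := S.presheaf.stalk s)
    (M := Γ(G, V)) (N := G.presheaf.stalk s) (hV.primeIdealOf ⟨s, hs⟩).asIdeal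
    (G.presheaf.germ V s hs).hom (fun r m => germ_smul G s V hs r m) ?_ ?_
  · intro m hm
    obtain ⟨g, hg, hgm⟩ := T2 m hm
    exact ⟨g, (notMem_primeIdealOf_iff hV s hs g).mpr hg, hgm⟩
  · intro μ
    obtain ⟨n, a, ha, han⟩ := T1 μ
    exact ⟨n, _, ha, han⟩

/-- weakly associated points of a quasi-coherent module via sections over an affine open -/
theorem isWeakAssPoint_iff_exists_mem_minimalPrimes {X : Scheme.{u}} (F : X.Modules)
    (hq : SheafOfModules.IsQuasicoherent.{u, u, u} F) {V : X.Opens} (hV : IsAffineOpen V)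
    (x : X) (hx : x ∈ V) :
    Curv2.IsWeakAssPoint F x ↔ ∃ n : Γ(F, V), (hV.primeIdealOf ⟨x, hx⟩).asIdeal ∈
      Ideal.minimalPrimes (LinearMap.ker (LinearMap.toSpanSingleton Γ(X, V) Γ(F, V) n)) :=
  isWeakAssPoint_iff_of_localizing F hV x hx
    (fun μ => exists_germ_smul_eq F hq hV x hx μ)
    (fun n hn => exists_smul_eq_zero_of_germ_eq_zero F hq hV x hx n hn)

/-- sections of a direct image with vanishing germ are killed by a function invertible at the
point (affine situation) -/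
theorem exists_smul_eq_zero_of_germ_eq_zero_pushforward {X S : Scheme.{u}} (f : X ⟶ S)
    (F : X.Modules) (hq : SheafOfModules.IsQuasicoherent.{u, u, u} F) {V : S.Opens}
    (hV : IsAffineOpen V) (hU : IsAffineOpen (f ⁻¹ᵁ V)) (s : S) (hs : s ∈ V)
    (n : Γ((Scheme.Modules.pushforward f).obj F, V))
    (hn : ((Scheme.Modules.pushforward f).obj F).presheaf.germ V s hs n = 0) :
    ∃ a : Γ(S, V), IsUnit (S.presheaf.germ V s hs a) ∧ a • n = 0 := by
  have h0 : ((Scheme.Modules.pushforward f).obj F).presheaf.germ V s hs n =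
      ((Scheme.Modules.pushforward f).obj F).presheaf.germ V s hs 0 := by
    rw [hn, map_zero]
  obtain ⟨W, hsW, iU, iV, e⟩ := TopCat.Presheaf.germ_eq
    ((Scheme.Modules.pushforward f).obj F).presheaf s hs hs n 0 h0
  rw [map_zero] at e
  obtain ⟨g, hgW, hsg⟩ := hV.exists_basicOpen_le ⟨s, hsW⟩ hs
  have hW' : f ⁻¹ᵁ S.basicOpen g = X.basicOpen (f.app V g) := Scheme.preimage_basicOpen f g
  have hDV : S.basicOpen g ≤ V := S.basicOpen_le g
  have hW'U : f ⁻¹ᵁ S.basicOpen g ≤ f ⁻¹ᵁ V := f.preimage_mono hDV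
  have hres : F.presheaf.map (homOfLE hW'U).op n = 0 := by
    have h1 : ((Scheme.Modules.pushforward f).obj F).presheaf.map (homOfLE hDV).op n =
        ((Scheme.Modules.pushforward f).obj F).presheaf.map (homOfLE hgW).op
          (((Scheme.Modules.pushforward f).obj F).presheaf.map iU.op n) := by
      rw [← ConcreteCategory.comp_apply, ← Functor.map_comp]
      rfl
    rw [e, map_zero] at h1
    exact h1
  obtain ⟨k, hk⟩ := exists_pow_smul_eq_zero_of_res_eq_zero F hq hU (f.app V g) _ hW'U hW' n hres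
  refine ⟨g ^ k, ?_, ?_⟩
  · rw [map_pow]
    exact ((S.mem_basicOpen g s hs).mp hsg).pow k
  · let n' : Γ(F, f ⁻¹ᵁ V) := n
    have : (g ^ k) • n = ((f.app V (g ^ k)) • n' : Γ(F, f ⁻¹ᵁ V)) := rfl
    rw [this, map_pow]
    exact hk

/-- germs of a direct image are fractions of sections (affine situation) -/
theorem exists_germ_smul_eq_pushforward {X S : Scheme.{u}} (f : X ⟶ S)
    (F : X.Modules) (hq : SheafOfModules.IsQuasicoherent.{u, u, u} F) {V : S.Opens}
    (hV : IsAffineOpen V) (hU : IsAffineOpen (f ⁻¹ᵁ V)) (s : S) (hs : s ∈ V)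
    (μ : ((Scheme.Modules.pushforward f).obj F).presheaf.stalk s) :
    ∃ (n : Γ((Scheme.Modules.pushforward f).obj F, V)) (a : Γ(S, V)),
      IsUnit (S.presheaf.germ V s hs a) ∧
      S.presheaf.germ V s hs a • μ = ((Scheme.Modules.pushforward f).obj F).presheaf.germ V s hs n := by
  obtain ⟨W, hsW, m, rfl⟩ := TopCat.Presheaf.exists_germ_eq
    ((Scheme.Modules.pushforward f).obj F).presheaf μ
  obtain ⟨g, hgW, hsg⟩ := hV.exists_basicOpen_le ⟨s, hsW⟩ hs
  have hW' : f ⁻¹ᵁ S.basicOpen g = X.basicOpen (f.app V g) := Scheme.preimage_basicOpen f g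
  have hDV : S.basicOpen g ≤ V := S.basicOpen_le g
  have hW'U : f ⁻¹ᵁ S.basicOpen g ≤ f ⁻¹ᵁ V := f.preimage_mono hDV
  let m' : Γ((Scheme.Modules.pushforward f).obj F, S.basicOpen g) :=
    ((Scheme.Modules.pushforward f).obj F).presheaf.map (homOfLE hgW).op m
  let m'' : Γ(F, f ⁻¹ᵁ S.basicOpen g) := m'
  obtain ⟨k, n, hkn⟩ := exists_pow_smul_eq_res_of_isAffineOpen F hq hU (f.app V g) _ hW'U hW' m''
  let n' : Γ((Scheme.Modules.pushforward f).obj F, V) := n
  refine ⟨n', g ^ k, ?_, ?_⟩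
  · rw [map_pow]
    exact ((S.mem_basicOpen g s hs).mp hsg).pow k
  · have e1 : ((Scheme.Modules.pushforward f).obj F).presheaf.germ (S.basicOpen g) s hsg m' =
        ((Scheme.Modules.pushforward f).obj F).presheaf.germ W s hsW m :=
      TopCat.Presheaf.germ_res_apply _ (homOfLE hgW) s hsg m
    have e2 : ((Scheme.Modules.pushforward f).obj F).presheaf.germ (S.basicOpen g) s hsg
        (((Scheme.Modules.pushforward f).obj F).presheaf.map (homOfLE hDV).op n') =
        ((Scheme.Modules.pushforward f).obj F).presheaf.germ V s hs n' :=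
      TopCat.Presheaf.germ_res_apply _ (homOfLE hDV) s hsg n'
    have e3 : (S.presheaf.map (homOfLE hDV).op (g ^ k)) • m' =
        ((Scheme.Modules.pushforward f).obj F).presheaf.map (homOfLE hDV).op n' := by
      have h1 : (S.presheaf.map (homOfLE hDV).op (g ^ k)) • m' =
          ((f.app (S.basicOpen g) (S.presheaf.map (homOfLE hDV).op (g ^ k))) • m'' :
            Γ(F, f ⁻¹ᵁ S.basicOpen g)) := rfl
      have h2 : f.app (S.basicOpen g) (S.presheaf.map (homOfLE hDV).op (g ^ k)) =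
          (X.presheaf.map (homOfLE hW'U).op (f.app V g)) ^ k := by
        have hnat := f.naturality (homOfLE hDV).op
        have := ConcreteCategory.congr_hom hnat (g ^ k)
        rw [ConcreteCategory.comp_apply, ConcreteCategory.comp_apply] at this
        rw [this, map_pow, map_pow]
        rfl
      rw [h1, h2, hkn]
      rfl
    have e4 : S.presheaf.germ (S.basicOpen g) s hsg (S.presheaf.map (homOfLE hDV).op (g ^ k)) =
        S.presheaf.germ V s hs (g ^ k) :=
      TopCat.Presheaf.germ_res_apply S.presheaf (homOfLE hDV) s hsg (g ^ k)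
    rw [← e1, ← e2, ← e3, germ_smul, e4]

/-- weakly associated points of a direct image via sections (affine situation) -/
theorem isWeakAssPoint_pushforward_iff {X S : Scheme.{u}} (f : X ⟶ S)
    (F : X.Modules) (hq : SheafOfModules.IsQuasicoherent.{u, u, u} F) {V : S.Opens}
    (hV : IsAffineOpen V) (hU : IsAffineOpen (f ⁻¹ᵁ V)) (s : S) (hs : s ∈ V) :
    Curv2.IsWeakAssPoint ((Scheme.Modules.pushforward f).obj F) s ↔
      ∃ n : Γ(F, f ⁻¹ᵁ V), (hV.primeIdealOf ⟨s, hs⟩).asIdeal ∈ Ideal.minimalPrimes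
        (Ideal.comap (f.app V).hom
          (LinearMap.ker (LinearMap.toSpanSingleton Γ(X, f ⁻¹ᵁ V) Γ(F, f ⁻¹ᵁ V) n))) := by
  rw [isWeakAssPoint_iff_of_localizing ((Scheme.Modules.pushforward f).obj F) hV s hs
    (fun μ => exists_germ_smul_eq_pushforward f F hq hV hU s hs μ)
    (fun n hn => exists_smul_eq_zero_of_germ_eq_zero_pushforward f F hq hV hU s hs n hn)]
  have key : ∀ n : Γ(F, f ⁻¹ᵁ V),
      LinearMap.ker (LinearMap.toSpanSingleton Γ(S, V)
        Γ((Scheme.Modules.pushforward f).obj F, V) n) =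
      Ideal.comap (f.app V).hom
        (LinearMap.ker (LinearMap.toSpanSingleton Γ(X, f ⁻¹ᵁ V) Γ(F, f ⁻¹ᵁ V) n)) := by
    intro n
    ext a
    rw [Ideal.mem_comap, LinearMap.mem_ker, LinearMap.mem_ker, LinearMap.toSpanSingleton_apply,
      LinearMap.toSpanSingleton_apply]
    rfl
  constructor
  · rintro ⟨n, hn⟩
    exact ⟨n, (key n) ▸ hn⟩
  · rintro ⟨n, hn⟩
    exact ⟨n, (key n).symm ▸ hn⟩

theorem primeIdealOf_fromSpec {X : Scheme.{u}} {U : X.Opens} (hU : IsAffineOpen U)
    (y : PrimeSpectrum Γ(X, U)) (hy : hU.fromSpec y ∈ U) :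
    hU.primeIdealOf ⟨hU.fromSpec y, hy⟩ = y := by
  have h1 := hU.fromSpec_primeIdealOf ⟨hU.fromSpec y, hy⟩
  exact hU.fromSpec.isOpenEmbedding.injective h1

theorem fromSpec_mem {X : Scheme.{u}} {U : X.Opens} (hU : IsAffineOpen U)
    (y : PrimeSpectrum Γ(X, U)) : hU.fromSpec y ∈ U := by
  have : hU.fromSpec y ∈ Set.range hU.fromSpec := ⟨y, rfl⟩
  rwa [hU.range_fromSpec] at this

/-- the image under `f` of the point of `f ⁻¹ V` attached to a prime -/
theorem map_fromSpec_eq {X S : Scheme.{u}} (f : X ⟶ S) {V : S.Opens} (hV : IsAffineOpen V)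
    (hU : IsAffineOpen (f ⁻¹ᵁ V)) (y : PrimeSpectrum Γ(X, f ⁻¹ᵁ V)) :
    f (hU.fromSpec y) = hV.fromSpec (PrimeSpectrum.comap (f.app V).hom y) := by
  have h := IsAffineOpen.SpecMap_appLE_fromSpec f hV hU le_rfl
  have h2 := congrArg (fun φ => φ y) h
  simp only [Scheme.Hom.comp_apply] at h2
  rw [← h2, Scheme.Hom.appLE_eq_app]
  rfl

theorem exists_isWeakAssPoint_of_pushforward {X S : Scheme.{u}} (f : X ⟶ S) [IsAffineHom f]
    (F : X.Modules) (hF : SheafOfModules.IsQuasicoherent.{u, u, u} F)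
    (s : S) (hs : Curv2.IsWeakAssPoint ((Scheme.Modules.pushforward f).obj F) s) :
    ∃ x : X, f x = s ∧ Curv2.IsWeakAssPoint F x := by
  obtain ⟨_, ⟨V, hV, rfl⟩, hsV, -⟩ :=
    (S.isBasis_affineOpens).exists_subset_of_mem_open (Set.mem_univ s) isOpen_univ
  have hU : IsAffineOpen (f ⁻¹ᵁ V) := hV.preimage f
  rw [isWeakAssPoint_pushforward_iff f F hF hV hU s hsV] at hs
  obtain ⟨n, hn⟩ := hs
  obtain ⟨q, hq, hqp⟩ := Ideal.exists_minimalPrimes_comap_eq (f.app V).hom _ hn
  let y : PrimeSpectrum Γ(X, f ⁻¹ᵁ V) := ⟨q, hq.1.1⟩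
  have hxU : hU.fromSpec y ∈ f ⁻¹ᵁ V := fromSpec_mem hU y
  refine ⟨hU.fromSpec y, ?_, ?_⟩
  · rw [map_fromSpec_eq f hV hU y]
    have : PrimeSpectrum.comap (f.app V).hom y = hV.primeIdealOf ⟨s, hsV⟩ :=
      PrimeSpectrum.ext hqp
    rw [this]
    exact hV.fromSpec_primeIdealOf ⟨s, hsV⟩
  · rw [isWeakAssPoint_iff_exists_mem_minimalPrimes F hF hU _ hxU, primeIdealOf_fromSpec hU y hxU]
    exact ⟨n, hq⟩

end Groth.Agent.Helper7.FinType
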