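import Mathlib
import Groth.Agent.Lib.Helper7.CohStalk.Pushforward

/-!
# Helper library (helper7): associated points of direct images along affine and integral
morphisms of locally Noetherian schemes
-/

set_option autoImplicit false
open CategoryTheory AlgebraicGeometry Topology TopologicalSpace Limits
universe u
namespace Groth.Agent.Helper7.FinType

theorem ker_toSpanSingleton_eq_colon {R M : Type*} [CommRing R] [AddCommGroup M] [Module R M]
    (m : M) : LinearMap.ker (LinearMap.toSpanSingleton R M m) = Submodule.colon ⊥ {m} := by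
  ext a
  rw [LinearMap.mem_ker, LinearMap.toSpanSingleton_apply, Submodule.mem_colon_singleton,
    Submodule.mem_bot]

/-- on a locally Noetherian source, the image of a weakly associated point under an affine
morphism is weakly associated to the direct image -/
theorem isWeakAssPoint_pushforward_of_isWeakAssPoint {X S : Scheme.{u}} (f : X ⟶ S)
    [IsAffineHom f] [IsLocallyNoetherian X] (F : X.Modules)
    (hF : SheafOfModules.IsQuasicoherent.{u, u, u} F) (x : X)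
    (hx : Curv2.IsWeakAssPoint F x) :
    Curv2.IsWeakAssPoint ((Scheme.Modules.pushforward f).obj F) (f x) := by
  obtain ⟨_, ⟨V, hV, rfl⟩, hsV, -⟩ :=
    (S.isBasis_affineOpens).exists_subset_of_mem_open (Set.mem_univ (f x)) isOpen_univ
  have hU : IsAffineOpen (f ⁻¹ᵁ V) := hV.preimage f
  have hxU : x ∈ f ⁻¹ᵁ V := hsV
  have hN : IsNoetherianRing Γ(X, f ⁻¹ᵁ V) :=
    IsLocallyNoetherian.component_noetherian ⟨f ⁻¹ᵁ V, hU⟩
  obtain ⟨n, hn⟩ := (isWeakAssPoint_iff_exists_mem_minimalPrimes F hF hU x hxU).mp hx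
  rw [ker_toSpanSingleton_eq_colon] at hn
  obtain ⟨n', hn'⟩ := Submodule.exists_eq_colon_of_mem_minimalPrimes hn
  rw [isWeakAssPoint_pushforward_iff f F hF hV hU (f x) hsV]
  refine ⟨n', ?_⟩
  have e1 : (hV.primeIdealOf ⟨f x, hsV⟩).asIdeal =
      Ideal.comap (f.app V).hom (hU.primeIdealOf ⟨x, hxU⟩).asIdeal := by
    have := IsAffineOpen.comap_primeIdealOf_appLE V hV (f ⁻¹ᵁ V) hU le_rfl hxU
    rw [← this, Scheme.Hom.appLE_eq_app]
    rfl
  rw [ker_toSpanSingleton_eq_colon, ← hn', e1]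
  have hprime : (Ideal.comap (f.app V).hom (hU.primeIdealOf ⟨x, hxU⟩).asIdeal).IsPrime :=
    Ideal.comap_isPrime _ _
  rw [Ideal.minimalPrimes_eq_subsingleton_self]
  rfl

/-- integral morphisms have no nontrivial specializations inside a fibre -/
theorem eq_of_specializes_of_map_eq {X S : Scheme.{u}} (f : X ⟶ S) [IsIntegralHom f] (x y : X)
    (h : y ⤳ x) (hf : f x = f y) : x = y := by
  obtain ⟨_, ⟨V, hV, rfl⟩, hsV, -⟩ :=
    (S.isBasis_affineOpens).exists_subset_of_mem_open (Set.mem_univ (f x)) isOpen_univ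
  have hU : IsAffineOpen (f ⁻¹ᵁ V) := hV.preimage f
  have hxU : x ∈ f ⁻¹ᵁ V := hsV
  have hyU : y ∈ f ⁻¹ᵁ V := h.mem_open (f ⁻¹ᵁ V).2 hxU
  have hsV' : f y ∈ V := hyU
  have hle : (hU.primeIdealOf ⟨y, hyU⟩).asIdeal ≤ (hU.primeIdealOf ⟨x, hxU⟩).asIdeal := by
    have h1 : hU.fromSpec (hU.primeIdealOf ⟨y, hyU⟩) ⤳ hU.fromSpec (hU.primeIdealOf ⟨x, hxU⟩) := by
      rw [hU.fromSpec_primeIdealOf ⟨y, hyU⟩, hU.fromSpec_primeIdealOf ⟨x, hxU⟩]
      exact h
    have h2 := hU.fromSpec.isOpenEmbedding.isInducing.specializes_iff.mp h1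
    exact (PrimeSpectrum.le_iff_specializes
      (hU.primeIdealOf ⟨y, hyU⟩ : PrimeSpectrum Γ(X, f ⁻¹ᵁ V)) (hU.primeIdealOf ⟨x, hxU⟩)).mpr h2
  have e1 : Ideal.comap (f.app V).hom (hU.primeIdealOf ⟨x, hxU⟩).asIdeal =
      (hV.primeIdealOf ⟨f x, hsV⟩).asIdeal := by
    have := IsAffineOpen.comap_primeIdealOf_appLE V hV (f ⁻¹ᵁ V) hU le_rfl hxU
    rw [← this, Scheme.Hom.appLE_eq_app]
    rfl
  have e2 : Ideal.comap (f.app V).hom (hU.primeIdealOf ⟨y, hyU⟩).asIdeal =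
      (hV.primeIdealOf ⟨f y, hsV'⟩).asIdeal := by
    have := IsAffineOpen.comap_primeIdealOf_appLE V hV (f ⁻¹ᵁ V) hU le_rfl hyU
    rw [← this, Scheme.Hom.appLE_eq_app]
    rfl
  have e3 : (hV.primeIdealOf ⟨f x, hsV⟩) = (hV.primeIdealOf ⟨f y, hsV'⟩) := by
    congr 1
    exact Subtype.ext hf
  have hq : (hU.primeIdealOf ⟨y, hyU⟩).asIdeal = (hU.primeIdealOf ⟨x, hxU⟩).asIdeal := by
    by_contra hne
    have hlt : (hU.primeIdealOf ⟨y, hyU⟩).asIdeal < (hU.primeIdealOf ⟨x, hxU⟩).asIdeal :=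
      lt_of_le_of_ne hle hne
    let _ : Algebra Γ(S, V) Γ(X, f ⁻¹ᵁ V) := (f.app V).hom.toAlgebra
    have hint : Algebra.IsIntegral Γ(S, V) Γ(X, f ⁻¹ᵁ V) := ⟨f.isIntegral_app V hV⟩
    have h1 := Ideal.IsIntegral.comap_lt_comap (R := Γ(S, V)) hlt
    have h2 : Ideal.comap (f.app V).hom (hU.primeIdealOf ⟨y, hyU⟩).asIdeal <
        Ideal.comap (f.app V).hom (hU.primeIdealOf ⟨x, hxU⟩).asIdeal := h1
    rw [e1, e2, e3] at h2
    exact lt_irrefl _ h2
  have hq' : hU.primeIdealOf ⟨y, hyU⟩ = hU.primeIdealOf ⟨x, hxU⟩ := PrimeSpectrum.ext hq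
  have := hU.fromSpec_primeIdealOf ⟨y, hyU⟩
  rw [hq', hU.fromSpec_primeIdealOf ⟨x, hxU⟩] at this
  exact this

end Groth.Agent.Helper7.FinType
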