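import Mathlib
import Groth.Agent.Lib.Helper7.CohStalk.Pushforward2

/-!
# Helper library (helper7): weakly associated points of direct images along finite morphisms
-/

set_option autoImplicit false
open CategoryTheory AlgebraicGeometry Topology TopologicalSpace Limits
universe u
namespace Groth.Agent.Helper7.FinType

/-- Algebra: weakly associated primes of a module over a finite algebra contract to weakly
associated primes over the base. -/
theorem exists_mem_minimalPrimes_comap_of_finite {A B N : Type*} [CommRing A] [CommRing B]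
    [Algebra A B] [Module.Finite A B] [AddCommGroup N] [Module B N] (q : Ideal B) (m : N)
    (hq : q ∈ Ideal.minimalPrimes (LinearMap.ker (LinearMap.toSpanSingleton B N m))) :
    ∃ m' : N, Ideal.comap (algebraMap A B) q ∈ Ideal.minimalPrimes
      (Ideal.comap (algebraMap A B) (LinearMap.ker (LinearMap.toSpanSingleton B N m'))) := by
  classical
  have hqp : q.IsPrime := hq.1.1
  have hI : ∀ (n : N) (a : B), a ∈ LinearMap.ker (LinearMap.toSpanSingleton B N n) ↔ a • n = 0 :=
    fun n a => by rw [LinearMap.mem_ker, LinearMap.toSpanSingleton_apply]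
  have hint : Algebra.IsIntegral A B := inferInstance
  set p := Ideal.comap (algebraMap A B) q with hp
  have hpp : p.IsPrime := Ideal.comap_isPrime _ _
  have hfin : (p.primesOver B).Finite := Algebra.QuasiFinite.finite_primesOver p
  let T : Finset (Ideal B) := hfin.toFinset.erase q
  have hT : ∀ q' ∈ T, q'.IsPrime ∧ Ideal.comap (algebraMap A B) q' = p ∧ q' ≠ q := by
    intro q' hq'
    rw [Finset.mem_erase, Set.Finite.mem_toFinset] at hq'
    obtain ⟨hne, hpr, hlo⟩ := hq'
    exact ⟨hpr, hlo.over.symm, hne⟩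
  -- prime avoidance
  obtain ⟨x, hxq, hxT⟩ : ∃ x ∈ q, ∀ q' ∈ T, x ∉ q' := by
    by_contra hcon
    have hsub : (q : Set B) ⊆ ⋃ i ∈ (↑T : Set (Ideal B)), (i : Set B) := by
      intro x hx
      by_contra hx'
      apply hcon
      refine ⟨x, hx, fun q' hq' hxq' => hx' ?_⟩
      exact Set.mem_biUnion (show q' ∈ (↑T : Set (Ideal B)) from hq') hxq'
    obtain ⟨q', hq'T, hle⟩ := (Ideal.subset_union_prime (f := fun i : Ideal B => i) q q
      (fun i hi _ _ => (hT i hi).1)).mp hsub
    obtain ⟨hq'p, hq'c, hq'ne⟩ := hT q' hq'T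
    have hlt : q < q' := lt_of_le_of_ne hle (Ne.symm hq'ne)
    have := Ideal.IsIntegral.comap_lt_comap (R := A) hlt
    rw [hq'c] at this
    exact lt_irrefl _ this
  obtain ⟨y, hyq, t, hyt⟩ := exists_notMem_mul_pow_mem_of_mem_minimalPrimes hq hxq
  refine ⟨y • m, ⟨⟨hpp, ?_⟩, ?_⟩⟩
  · intro a ha
    rw [Ideal.mem_comap, hI, smul_smul] at ha
    have h1 : algebraMap A B a * y ∈ q := hq.1.2 ((hI m _).mpr ha)
    rcases hqp.mem_or_mem h1 with h | h
    · exact h
    · exact absurd h hyq
  · rintro p' ⟨hp'p, hJp'⟩ hp'le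
    obtain ⟨Q, hQJ, hQp, hQc⟩ := Ideal.exists_ideal_over_prime_of_isIntegral p'
      (LinearMap.ker (LinearMap.toSpanSingleton B N (y • m))) hJp'
    obtain ⟨Q', hQ'Q, hQ'p, hQ'c⟩ := Ideal.exists_ideal_over_prime_of_isIntegral p Q
      (by rw [hQc]; exact hp'le)
    have hxQ' : x ∈ Q' := by
      apply hQ'p.mem_of_pow_mem t
      apply hQ'Q
      apply hQJ
      rw [hI, smul_smul]
      have := (hI m _).mp hyt
      rw [mul_comm] at this
      exact this
    have hQ'q : Q' = q := by
      by_contra hne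
      have hmem : Q' ∈ T := by
        rw [Finset.mem_erase, Set.Finite.mem_toFinset]
        exact ⟨hne, hQ'p, ⟨hQ'c.symm⟩⟩
      exact hxT Q' hmem hxQ'
    have hJQ : LinearMap.ker (LinearMap.toSpanSingleton B N m) ≤ Q := by
      intro a ha
      apply hQJ
      rw [hI, smul_comm, (hI m a).mp ha, smul_zero]
    have hqQ : q ≤ Q := hq.2 ⟨hQp, hJQ⟩ (hQ'q ▸ hQ'Q)
    rw [← hQc]
    exact Ideal.comap_mono hqQ

/-- the image of a weakly associated point under a finite morphism is weakly associated to the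
direct image -/
theorem isWeakAssPoint_pushforward_of_isFinite {X S : Scheme.{u}} (f : X ⟶ S)
    [IsFinite f] (F : X.Modules)
    (hF : SheafOfModules.IsQuasicoherent.{u, u, u} F) (x : X)
    (hx : Curv2.IsWeakAssPoint F x) :
    Curv2.IsWeakAssPoint ((Scheme.Modules.pushforward f).obj F) (f x) := by
  obtain ⟨_, ⟨V, hV, rfl⟩, hsV, -⟩ :=
    (S.isBasis_affineOpens).exists_subset_of_mem_open (Set.mem_univ (f x)) isOpen_univ
  have hU : IsAffineOpen (f ⁻¹ᵁ V) := hV.preimage f
  have hxU : x ∈ f ⁻¹ᵁ V := hsV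
  obtain ⟨n, hn⟩ := (isWeakAssPoint_iff_exists_mem_minimalPrimes F hF hU x hxU).mp hx
  let _ : Algebra Γ(S, V) Γ(X, f ⁻¹ᵁ V) := (f.app V).hom.toAlgebra
  have hfin : Module.Finite Γ(S, V) Γ(X, f ⁻¹ᵁ V) := f.finite_app V hV
  obtain ⟨n', hn'⟩ := exists_mem_minimalPrimes_comap_of_finite (A := Γ(S, V))
    (hU.primeIdealOf ⟨x, hxU⟩).asIdeal n hn
  rw [isWeakAssPoint_pushforward_iff f F hF hV hU (f x) hsV]
  refine ⟨n', ?_⟩
  have e1 : (hV.primeIdealOf ⟨f x, hsV⟩).asIdeal =
      Ideal.comap (f.app V).hom (hU.primeIdealOf ⟨x, hxU⟩).asIdeal := by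
    have := IsAffineOpen.comap_primeIdealOf_appLE V hV (f ⁻¹ᵁ V) hU le_rfl hxU
    rw [← this, Scheme.Hom.appLE_eq_app]
    rfl
  rw [e1]
  exact hn'

end Groth.Agent.Helper7.FinType
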