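import Mathlib
import Groth.Agent.Lib.Helper7.CohStalk.PushforwardFinite

/-!
# Helper library (helper7): weakly associated points of direct images along quasi-compact
morphisms
-/

set_option autoImplicit false
open CategoryTheory AlgebraicGeometry Topology TopologicalSpace Limits
universe u
namespace Groth.Agent.Helper7.FinType

/-- a section of a quasi-coherent module over a quasi-compact open which vanishes on a basic open
is killed by a power of the function -/
theorem exists_pow_smul_eq_zero_of_isCompact {X : Scheme.{u}} (M : X.Modules)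
    (hq : SheafOfModules.IsQuasicoherent.{u, u, u} M) (U : X.Opens)
    (hU : IsCompact (U : Set X))
    (b : Γ(X, U)) (W : X.Opens) (hWU : W ≤ U) (hW : W = X.basicOpen b) (n : Γ(M, U))
    (hn : M.presheaf.map (homOfLE hWU).op n = 0) : ∃ k : ℕ, b ^ k • n = 0 := by
  classical
  -- affine neighbourhoods inside `U`
  have hloc : ∀ x : U, ∃ V : X.Opens, IsAffineOpen V ∧ x.1 ∈ V ∧ V ≤ U := by
    intro x
    obtain ⟨_, ⟨V, hV, rfl⟩, hxV, hVU⟩ :=
      (X.isBasis_affineOpens).exists_subset_of_mem_open x.2 U.2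
    exact ⟨V, hV, hxV, hVU⟩
  choose V hVaff hxV hVU using hloc
  obtain ⟨t, ht⟩ := hU.elim_finite_subcover (fun x : U => ((V x : X.Opens) : Set X))
    (fun x => (V x).2) (fun y hy => Set.mem_iUnion.mpr ⟨⟨y, hy⟩, hxV ⟨y, hy⟩⟩)
  -- exponents on each piece
  have hk : ∀ i : U, ∃ k : ℕ, (X.presheaf.map (homOfLE (hVU i)).op b) ^ k •
      M.presheaf.map (homOfLE (hVU i)).op n = 0 := by
    intro i
    have hWi : V i ⊓ W = X.basicOpen (X.presheaf.map (homOfLE (hVU i)).op b) := by
      rw [Scheme.basicOpen_res, hW]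
    refine exists_pow_smul_eq_zero_of_res_eq_zero M hq (hVaff i) _ (V i ⊓ W) inf_le_left hWi _ ?_
    have h1 : M.presheaf.map (homOfLE (inf_le_left : V i ⊓ W ≤ V i)).op
        (M.presheaf.map (homOfLE (hVU i)).op n) =
        M.presheaf.map (homOfLE (inf_le_right : V i ⊓ W ≤ W)).op
          (M.presheaf.map (homOfLE hWU).op n) := by
      rw [← ConcreteCategory.comp_apply, ← Functor.map_comp, ← ConcreteCategory.comp_apply,
        ← Functor.map_comp]
      rfl
    rw [h1, hn, map_zero]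
  choose k hk using hk
  refine ⟨t.sup k, ?_⟩
  apply TopCat.Presheaf.section_ext ⟨M.presheaf, M.isSheaf⟩ U _ 0
  intro x hx
  rw [map_zero]
  have := ht hx
  simp only [Set.mem_iUnion, exists_prop] at this
  obtain ⟨i, hit, hxi⟩ := this
  have hxi' : x ∈ V i := hxi
  rw [← TopCat.Presheaf.germ_res_apply M.presheaf (homOfLE (hVU i)) x hxi', 
    Scheme.Modules.map_smul, map_pow]
  have hle : k i ≤ t.sup k := Finset.le_sup hit
  obtain ⟨d, hd⟩ := Nat.exists_eq_add_of_le hle
  rw [hd, pow_add, mul_comm, mul_smul, hk i, smul_zero, map_zero]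

/-- sections of a direct image with vanishing germ are killed by a function invertible at the
point (quasi-compact situation) -/
theorem exists_smul_eq_zero_of_germ_eq_zero_pushforward_of_isCompact {X S : Scheme.{u}}
    (f : X ⟶ S)
    (F : X.Modules) (hq : SheafOfModules.IsQuasicoherent.{u, u, u} F) {V : S.Opens}
    (hV : IsAffineOpen V) (hU : IsCompact ((f ⁻¹ᵁ V : X.Opens) : Set X)) (s : S) (hs : s ∈ V)
    (n : Γ((Scheme.Modules.pushforward f).obj F, V))
    (hn : ((Scheme.Modules.pushforward f).obj F).presheaf.germ V s hs n = 0) :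
    ∃ a : Γ(S, V), IsUnit (S.presheaf.germ V s hs a) ∧ a • n = 0 := by
  have h0 : ((Scheme.Modules.pushforward f).obj F).presheaf.germ V s hs n =
      ((Scheme.Modules.pushforward f).obj F).presheaf.germ V s hs 0 := by
    rw [hn, map_zero]
  obtain ⟨W, hsW, iU, iV, e⟩ := TopCat.Presheaf.germ_eq
    ((Scheme.Modules.pushforward f).obj F).presheaf s hs hs n 0 h0
  rw [map_zero] at e
  obtain ⟨g, hgW, hsg⟩ := hV.exists_basicOpen_le ⟨s, hsW⟩ hs
  have hW' : f ⁻¹ᵁ S.basicOpen g = X.basicOpen (f.app V g) := Scheme.preimage_basicOpen f g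
  have hDV : S.basicOpen g ≤ V := S.basicOpen_le g
  have hW'U : f ⁻¹ᵁ S.basicOpen g ≤ f ⁻¹ᵁ V := f.preimage_mono hDV
  have hres : F.presheaf.map (homOfLE hW'U).op n = 0 := by
    have h1 : ((Scheme.Modules.pushforward f).obj F).presheaf.map (homOfLE hDV).op n =
        ((Scheme.Modules.pushforward f).obj F).presheaf.map (homOfLE hgW).op
          (((Scheme.Modules.pushforward f).obj F).presheaf.map iU.op n) := by
      rw [← ConcreteCategory.comp_apply, ← Functor.map_comp]
      rfl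
    rw [e, map_zero] at h1
    exact h1
  obtain ⟨k, hk⟩ := exists_pow_smul_eq_zero_of_isCompact F hq _ hU (f.app V g) _ hW'U hW' n hres
  refine ⟨g ^ k, ?_, ?_⟩
  · rw [map_pow]
    exact ((S.mem_basicOpen g s hs).mp hsg).pow k
  · let n' : Γ(F, f ⁻¹ᵁ V) := n
    have : (g ^ k) • n = ((f.app V (g ^ k)) • n' : Γ(F, f ⁻¹ᵁ V)) := rfl
    rw [this, map_pow]
    exact hk

/-- a weakly associated point of a direct image along a quasi-compact morphism comes from a
section over the preimage of a small affine open -/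
theorem exists_mem_minimalPrimes_of_isWeakAssPoint_pushforward {X S : Scheme.{u}} (f : X ⟶ S)
    [QuasiCompact f] (F : X.Modules) (hq : SheafOfModules.IsQuasicoherent.{u, u, u} F) (s : S)
    (hs : Curv2.IsWeakAssPoint ((Scheme.Modules.pushforward f).obj F) s) :
    ∃ (V : S.Opens) (hV : IsAffineOpen V) (hsV : s ∈ V) (n : Γ(F, f ⁻¹ᵁ V)),
      (hV.primeIdealOf ⟨s, hsV⟩).asIdeal ∈ Ideal.minimalPrimes
        (Ideal.comap (f.app V).hom
          (LinearMap.ker (LinearMap.toSpanSingleton Γ(X, f ⁻¹ᵁ V) Γ(F, f ⁻¹ᵁ V) n))) := by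
  obtain ⟨μ, hμ⟩ := hs
  obtain ⟨W, hsW, m, rfl⟩ := TopCat.Presheaf.exists_germ_eq
    ((Scheme.Modules.pushforward f).obj F).presheaf μ
  obtain ⟨_, ⟨V, hV, rfl⟩, hsV, hVW⟩ :=
    (S.isBasis_affineOpens).exists_subset_of_mem_open hsW W.2
  have hVW' : V ≤ W := hVW
  have hsV' : s ∈ V := hsV
  let n : Γ((Scheme.Modules.pushforward f).obj F, V) :=
    ((Scheme.Modules.pushforward f).obj F).presheaf.map (homOfLE hVW').op m
  have hgn : ((Scheme.Modules.pushforward f).obj F).presheaf.germ V s hsV' n =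
      ((Scheme.Modules.pushforward f).obj F).presheaf.germ W s hsW m :=
    TopCat.Presheaf.germ_res_apply _ (homOfLE hVW') s hsV' m
  have hU : IsCompact ((f ⁻¹ᵁ V : X.Opens) : Set X) :=
    QuasiCompact.isCompact_preimage (f := f) _ V.2 hV.isCompact
  let _ : Algebra Γ(S, V) (S.presheaf.stalk s) :=
    TopCat.Presheaf.algebra_section_stalk S.presheaf (⟨s, hsV'⟩ : V)
  have hloc : IsLocalization.AtPrime (S.presheaf.stalk s) (hV.primeIdealOf ⟨s, hsV'⟩).asIdeal :=
    hV.isLocalization_stalk ⟨s, hsV'⟩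
  have hmin := mem_minimalPrimes_ann_of_radical_eq (R := Γ(S, V)) (S := S.presheaf.stalk s)
    (M := Γ((Scheme.Modules.pushforward f).obj F, V))
    (N := ((Scheme.Modules.pushforward f).obj F).presheaf.stalk s)
    (hV.primeIdealOf ⟨s, hsV'⟩).asIdeal
    (((Scheme.Modules.pushforward f).obj F).presheaf.germ V s hsV').hom
    (fun r m => germ_smul _ s V hsV' r m)
    (fun m hm => by
      obtain ⟨g, hg, hgm⟩ :=
        exists_smul_eq_zero_of_germ_eq_zero_pushforward_of_isCompact f F hq hV hU s hsV' m hm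
      exact ⟨g, (notMem_primeIdealOf_iff hV s hsV' g).mpr hg, hgm⟩)
    n
    (fun t => by
      rw [← hμ]
      constructor
      · rintro ⟨k, hk⟩
        rw [LinearMap.mem_ker, LinearMap.toSpanSingleton_apply] at hk
        refine ⟨k, ?_⟩
        change t ^ k • ((Scheme.Modules.pushforward f).obj F).presheaf.germ V s hsV' n = 0
        rw [hgn]
        exact hk
      · rintro ⟨k, hk⟩
        refine ⟨k, ?_⟩
        rw [LinearMap.mem_ker, LinearMap.toSpanSingleton_apply]
        have hk' : t ^ k • ((Scheme.Modules.pushforward f).obj F).presheaf.germ V s hsV' n = 0 := hk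
        rw [hgn] at hk'
        exact hk')
  refine ⟨V, hV, hsV', n, ?_⟩
  have key : LinearMap.ker (LinearMap.toSpanSingleton Γ(S, V)
        Γ((Scheme.Modules.pushforward f).obj F, V) n) =
      Ideal.comap (f.app V).hom
        (LinearMap.ker (LinearMap.toSpanSingleton Γ(X, f ⁻¹ᵁ V) Γ(F, f ⁻¹ᵁ V) n)) := by
    ext a
    rw [Ideal.mem_comap, LinearMap.mem_ker, LinearMap.mem_ker, LinearMap.toSpanSingleton_apply,
      LinearMap.toSpanSingleton_apply]
    rfl
  rw [← key]
  exact hmin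

/-- variant of `map_fromSpec_eq` for an affine open inside the preimage -/
theorem map_fromSpec_eq' {X S : Scheme.{u}} (f : X ⟶ S) {V : S.Opens} (hV : IsAffineOpen V)
    {U : X.Opens} (hU : IsAffineOpen U) (e : U ≤ f ⁻¹ᵁ V) (y : PrimeSpectrum Γ(X, U)) :
    f (hU.fromSpec y) = hV.fromSpec (PrimeSpectrum.comap (f.appLE V U e).hom y) := by
  have h := IsAffineOpen.SpecMap_appLE_fromSpec f hV hU e
  have h2 := congrArg (fun φ => φ y) h
  simp only [Scheme.Hom.comp_apply] at h2
  rw [← h2]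
  rfl

/-- associated points of a direct image along a quasi-compact morphism to a locally Noetherian
scheme are images of associated points -/
theorem exists_isWeakAssPoint_of_pushforward_of_quasiCompact {X S : Scheme.{u}}
    [IsLocallyNoetherian S] (f : X ⟶ S) [QuasiCompact f] (F : X.Modules)
    (hq : SheafOfModules.IsQuasicoherent.{u, u, u} F) (s : S)
    (hs : Curv2.IsWeakAssPoint ((Scheme.Modules.pushforward f).obj F) s) :
    ∃ x : X, f x = s ∧ Curv2.IsWeakAssPoint F x := by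
  classical
  obtain ⟨V, hV, hsV, n₀, hn₀⟩ :=
    exists_mem_minimalPrimes_of_isWeakAssPoint_pushforward f F hq s hs
  have hN : IsNoetherianRing Γ(S, V) := IsLocallyNoetherian.component_noetherian ⟨V, hV⟩
  -- rewrite in terms of the module structure of the direct image
  have key : ∀ n : Γ(F, f ⁻¹ᵁ V), LinearMap.ker (LinearMap.toSpanSingleton Γ(S, V)
        Γ((Scheme.Modules.pushforward f).obj F, V) n) =
      Ideal.comap (f.app V).hom
        (LinearMap.ker (LinearMap.toSpanSingleton Γ(X, f ⁻¹ᵁ V) Γ(F, f ⁻¹ᵁ V) n)) := by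
    intro n
    ext a
    rw [Ideal.mem_comap, LinearMap.mem_ker, LinearMap.mem_ker, LinearMap.toSpanSingleton_apply,
      LinearMap.toSpanSingleton_apply]
    rfl
  rw [← key, ker_toSpanSingleton_eq_colon] at hn₀
  obtain ⟨n₁, hn⟩ := Submodule.exists_eq_colon_of_mem_minimalPrimes hn₀
  let n : Γ(F, f ⁻¹ᵁ V) := n₁
  have hpn : ∀ a : Γ(S, V), a ∈ (hV.primeIdealOf ⟨s, hsV⟩).asIdeal ↔
      (f.app V a • n : Γ(F, f ⁻¹ᵁ V)) = 0 := by
    intro a
    rw [hn, Submodule.mem_colon_singleton, Submodule.mem_bot]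
    rfl
  -- finite affine cover of the preimage
  have hU : IsCompact ((f ⁻¹ᵁ V : X.Opens) : Set X) :=
    QuasiCompact.isCompact_preimage (f := f) _ V.2 hV.isCompact
  have hloc : ∀ x : (f ⁻¹ᵁ V : X.Opens), ∃ W : X.Opens, IsAffineOpen W ∧ x.1 ∈ W ∧ W ≤ f ⁻¹ᵁ V := by
    intro x
    obtain ⟨_, ⟨W, hW, rfl⟩, hxW, hWU⟩ :=
      (X.isBasis_affineOpens).exists_subset_of_mem_open x.2 (f ⁻¹ᵁ V).2
    exact ⟨W, hW, hxW, hWU⟩
  choose W hWaff hxW hWU using hloc
  obtain ⟨t, ht⟩ := hU.elim_finite_subcover (fun x => ((W x : X.Opens) : Set X))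
    (fun x => (W x).2) (fun y hy => Set.mem_iUnion.mpr ⟨⟨y, hy⟩, hxW ⟨y, hy⟩⟩)
  let I : (f ⁻¹ᵁ V : X.Opens) → Ideal Γ(S, V) := fun i =>
    Ideal.comap (f.appLE V (W i) (hWU i)).hom
      (LinearMap.ker (LinearMap.toSpanSingleton Γ(X, W i) Γ(F, W i)
        (F.presheaf.map (homOfLE (hWU i)).op n)))
  have hI : ∀ i a, a ∈ I i ↔ (f.appLE V (W i) (hWU i)).hom a •
      F.presheaf.map (homOfLE (hWU i)).op n = 0 := by
    intro i a
    simp only [I, Ideal.mem_comap, LinearMap.mem_ker, LinearMap.toSpanSingleton_apply]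
  have hres : ∀ i (a : Γ(S, V)), F.presheaf.map (homOfLE (hWU i)).op
      ((f.app V a • n : Γ(F, f ⁻¹ᵁ V))) =
      (f.appLE V (W i) (hWU i)).hom a • F.presheaf.map (homOfLE (hWU i)).op n := by
    intro i a
    rw [Scheme.Modules.map_smul]
    rfl
  have hinf : t.inf I ≤ (hV.primeIdealOf ⟨s, hsV⟩).asIdeal := by
    intro a ha
    rw [hpn]
    apply TopCat.Presheaf.section_ext ⟨F.presheaf, F.isSheaf⟩ (f ⁻¹ᵁ V) _ 0
    intro x hx
    rw [map_zero]
    have := ht hx
    simp only [Set.mem_iUnion, exists_prop] at this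
    obtain ⟨i, hit, hxi⟩ := this
    have hxi' : x ∈ W i := hxi
    rw [← TopCat.Presheaf.germ_res_apply F.presheaf (homOfLE (hWU i)) x hxi', hres]
    have hai : a ∈ I i := (Finset.inf_le hit : t.inf I ≤ I i) ha
    rw [(hI i a).mp hai, map_zero]
  obtain ⟨i, -, hi⟩ := (Ideal.IsPrime.inf_le' (hV.primeIdealOf ⟨s, hsV⟩).isPrime).mp hinf
  have hi' : (hV.primeIdealOf ⟨s, hsV⟩).asIdeal ≤ I i := by
    intro a ha
    rw [hI, ← hres, (hpn a).mp ha, map_zero]
  have hIeq : I i = (hV.primeIdealOf ⟨s, hsV⟩).asIdeal := le_antisymm hi hi'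
  have hmem : (hV.primeIdealOf ⟨s, hsV⟩).asIdeal ∈ (I i).minimalPrimes := by
    rw [hIeq, Ideal.minimalPrimes_eq_subsingleton_self]
    rfl
  obtain ⟨q, hq', hqp⟩ := Ideal.exists_minimalPrimes_comap_eq _ _ hmem
  let y : PrimeSpectrum Γ(X, W i) := ⟨q, hq'.1.1⟩
  have hxW' : (hWaff i).fromSpec y ∈ W i := fromSpec_mem (hWaff i) y
  refine ⟨(hWaff i).fromSpec y, ?_, ?_⟩
  · rw [map_fromSpec_eq' f hV (hWaff i) (hWU i) y]
    have : PrimeSpectrum.comap (f.appLE V (W i) (hWU i)).hom y = hV.primeIdealOf ⟨s, hsV⟩ :=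
      PrimeSpectrum.ext hqp
    rw [this]
    exact hV.fromSpec_primeIdealOf ⟨s, hsV⟩
  · rw [isWeakAssPoint_iff_exists_mem_minimalPrimes F hq (hWaff i) _ hxW',
      primeIdealOf_fromSpec (hWaff i) y hxW']
    exact ⟨_, hq'⟩

end Groth.Agent.Helper7.FinType
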