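import Mathlib
import Groth.Agent.Lib.Helper7.CohStalk.PushforwardQC

/-!
# Helper library (helper7): points outside the image are not weakly associated to a direct image;
direct images along open immersions
-/

set_option autoImplicit false
open CategoryTheory AlgebraicGeometry Topology TopologicalSpace Limits
universe u
namespace Groth.Agent.Helper7.FinType

/-- Algebra: if a prime `p` minimal over `I` is not in the image of `Spec B`, then away from some
`G ∉ p` every prime of `B` misses the image of some element of `I`. -/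
theorem exists_notMem_forall_prime_of_notMem_range {A B : Type*} [CommRing A] [CommRing B]
    (φ : A →+* B) (p : Ideal A) [hp : p.IsPrime] (hrange : ∀ q : Ideal B, q.IsPrime → q.comap φ ≠ p)
    (I : Ideal A) (hI : p ∈ I.minimalPrimes) :
    ∃ G : A, G ∉ p ∧ ∀ P : Ideal B, P.IsPrime → φ G ∉ P → ∃ c ∈ I, φ c ∉ P := by
  classical
  have hne : (p.map φ).comap φ ≠ p := by
    intro h
    obtain ⟨q, hq, hqp⟩ := (Ideal.comap_map_eq_self_iff_of_isPrime p).mp h
    exact hrange q hq hqp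
  have hlt : p < (p.map φ).comap φ := lt_of_le_of_ne Ideal.le_comap_map (Ne.symm hne)
  obtain ⟨g, hg, hgp⟩ := SetLike.exists_of_lt hlt
  have hg' : φ g ∈ Submodule.span B (φ '' (p : Set A)) := hg
  obtain ⟨T, hTsub, hgT⟩ := Submodule.mem_span_finite_of_mem_span hg'
  have hchoice : ∀ b : B, b ∈ T → ∃ a : A, a ∈ p ∧ φ a = b ∧ ∃ h : A, h ∉ p ∧ ∃ k : ℕ, h * a ^ k ∈ I := by
    intro b hb
    obtain ⟨a, ha, rfl⟩ := hTsub hb
    obtain ⟨h, hh, k, hk⟩ := exists_notMem_mul_pow_mem_of_mem_minimalPrimes hI ha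
    exact ⟨a, ha, rfl, h, hh, k, hk⟩
  choose! a hap hab h hhp k hk using hchoice
  refine ⟨g * ∏ b ∈ T, h b, ?_, ?_⟩
  · intro hmem
    rcases hp.mem_or_mem hmem with h1 | h1
    · exact hgp h1
    · obtain ⟨b, hbT, hb⟩ := (Ideal.IsPrime.prod_mem_iff (hp := hp)).mp h1
      exact hhp b hbT hb
  · intro P hP hGP
    have hgP : φ g ∉ P := by
      intro h1
      apply hGP
      rw [map_mul]
      exact P.mul_mem_right _ h1
    have hhP : ∀ b ∈ T, φ (h b) ∉ P := by
      intro b hbT h1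
      apply hGP
      rw [map_mul, map_prod]
      apply P.mul_mem_left
      exact (Ideal.IsPrime.prod_mem_iff (hp := hP)).mpr ⟨b, hbT, h1⟩
    have hex : ∃ b ∈ T, b ∉ P := by
      by_contra hcon
      have hTP : (T : Set B) ⊆ P := by
        intro b hb
        by_contra hbP
        exact hcon ⟨b, hb, hbP⟩
      exact hgP ((Submodule.span_le (p := P)).mpr hTP hgT)
    obtain ⟨b, hbT, hbP⟩ := hex
    refine ⟨h b * a b ^ k b, hk b hbT, ?_⟩
    rw [map_mul, map_pow, hab b hbT]
    intro h1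
    rcases hP.mem_or_mem h1 with h2 | h2
    · exact hhP b hbT h2
    · exact hbP (hP.mem_of_pow_mem _ h2)

/-- a quasi-compact open is covered by finitely many affine opens contained in it -/
theorem exists_finset_affine_cover {X : Scheme.{u}} (U : X.Opens) (hU : IsCompact (U : Set X)) :
    ∃ t : Finset X.Opens, (∀ W ∈ t, IsAffineOpen W ∧ W ≤ U) ∧ ∀ x ∈ U, ∃ W ∈ t, x ∈ W := by
  classical
  have hloc : ∀ x : U, ∃ V : X.Opens, IsAffineOpen V ∧ x.1 ∈ V ∧ V ≤ U := by
    intro x
    obtain ⟨_, ⟨V, hV, rfl⟩, hxV, hVU⟩ :=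
      (X.isBasis_affineOpens).exists_subset_of_mem_open x.2 U.2
    exact ⟨V, hV, hxV, hVU⟩
  choose V hVaff hxV hVU using hloc
  obtain ⟨t, ht⟩ := hU.elim_finite_subcover (fun x : U => ((V x : X.Opens) : Set X))
    (fun x => (V x).2) (fun y hy => Set.mem_iUnion.mpr ⟨⟨y, hy⟩, hxV ⟨y, hy⟩⟩)
  refine ⟨t.image V, ?_, ?_⟩
  · intro W hW
    obtain ⟨i, -, rfl⟩ := Finset.mem_image.mp hW
    exact ⟨hVaff i, hVU i⟩
  · intro x hx
    have := ht hx
    simp only [Set.mem_iUnion, exists_prop] at this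
    obtain ⟨i, hit, hxi⟩ := this
    exact ⟨V i, Finset.mem_image_of_mem V hit, hxi⟩

/-- a point outside the image of a quasi-compact morphism is not weakly associated to a direct
image of a quasi-coherent module -/
theorem not_isWeakAssPoint_pushforward_of_notMem_range {X S : Scheme.{u}} (f : X ⟶ S)
    [QuasiCompact f] (F : X.Modules) (hq : SheafOfModules.IsQuasicoherent.{u, u, u} F) (s : S)
    (hs : s ∉ Set.range f) :
    ¬ Curv2.IsWeakAssPoint ((Scheme.Modules.pushforward f).obj F) s := by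
  classical
  intro hass
  obtain ⟨V, hV, hsV, n, hn⟩ :=
    exists_mem_minimalPrimes_of_isWeakAssPoint_pushforward f F hq s hass
  have hU : IsCompact ((f ⁻¹ᵁ V : X.Opens) : Set X) :=
    QuasiCompact.isCompact_preimage (f := f) _ V.2 hV.isCompact
  obtain ⟨t, htaff, htcov⟩ := exists_finset_affine_cover (f ⁻¹ᵁ V) hU
  set p := (hV.primeIdealOf ⟨s, hsV⟩).asIdeal with hp
  set I := Ideal.comap (f.app V).hom
      (LinearMap.ker (LinearMap.toSpanSingleton Γ(X, f ⁻¹ᵁ V) Γ(F, f ⁻¹ᵁ V) n)) with hIdef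
  have hImem : ∀ c : Γ(S, V), c ∈ I ↔ f.app V c • n = 0 := by
    intro c
    rw [hIdef, Ideal.mem_comap, LinearMap.mem_ker, LinearMap.toSpanSingleton_apply]
  -- on each affine piece choose `G`
  have hpiece : ∀ W : X.Opens, W ∈ t → ∃ G : Γ(S, V), G ∉ p ∧
      ∀ (hW : IsAffineOpen W) (e : W ≤ f ⁻¹ᵁ V) (P : Ideal Γ(X, W)), P.IsPrime →
        (f.appLE V W e).hom G ∉ P → ∃ c ∈ I, (f.appLE V W e).hom c ∉ P := by
    intro W hWt
    obtain ⟨hW, e⟩ := htaff W hWt
    obtain ⟨G, hG, hGP⟩ := exists_notMem_forall_prime_of_notMem_range (f.appLE V W e).hom p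
      (fun q hq hqp => by
        apply hs
        let y : PrimeSpectrum Γ(X, W) := ⟨q, hq⟩
        refine ⟨hW.fromSpec y, ?_⟩
        rw [map_fromSpec_eq' f hV hW e y]
        have : PrimeSpectrum.comap (f.appLE V W e).hom y = hV.primeIdealOf ⟨s, hsV⟩ :=
          PrimeSpectrum.ext hqp
        rw [this]
        exact hV.fromSpec_primeIdealOf ⟨s, hsV⟩) I hn
    exact ⟨G, hG, fun _ _ P hP h => hGP P hP h⟩
  choose! G hGp hGP using hpiece
  let g' : Γ(S, V) := ∏ W ∈ t, G W
  have hg'p : g' ∉ p := by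
    intro h
    obtain ⟨W, hWt, hW⟩ := (Ideal.IsPrime.prod_mem_iff
      (hp := (hV.primeIdealOf ⟨s, hsV⟩).isPrime)).mp h
    exact hGp W hWt hW
  -- `n` vanishes on the basic open of `g'`
  have hW' : f ⁻¹ᵁ S.basicOpen g' = X.basicOpen (f.app V g') := Scheme.preimage_basicOpen f g'
  have hDV : S.basicOpen g' ≤ V := S.basicOpen_le g'
  have hW'U : f ⁻¹ᵁ S.basicOpen g' ≤ f ⁻¹ᵁ V := f.preimage_mono hDV
  have hres : F.presheaf.map (homOfLE hW'U).op n = 0 := by
    apply TopCat.Presheaf.section_ext ⟨F.presheaf, F.isSheaf⟩ _ _ 0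
    intro x hx
    rw [map_zero, TopCat.Presheaf.germ_res_apply F.presheaf (homOfLE hW'U) x hx n]
    have hxU : x ∈ f ⁻¹ᵁ V := hW'U hx
    obtain ⟨W, hWt, hxW⟩ := htcov x hxU
    obtain ⟨hW, e⟩ := htaff W hWt
    rw [← TopCat.Presheaf.germ_res_apply F.presheaf (homOfLE e) x hxW n]
    have hxb : x ∈ X.basicOpen (f.app V g') := hW' ▸ hx
    have hunit : IsUnit (X.presheaf.germ (f ⁻¹ᵁ V) x hxU (f.app V g')) :=
      (X.mem_basicOpen _ x hxU).mp hxb
    have hg'P : (f.appLE V W e).hom g' ∉ (hW.primeIdealOf ⟨x, hxW⟩).asIdeal := by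
      rw [notMem_primeIdealOf_iff hW x hxW]
      have : X.presheaf.germ W x hxW ((f.appLE V W e).hom g') =
          X.presheaf.germ (f ⁻¹ᵁ V) x hxU (f.app V g') :=
        TopCat.Presheaf.germ_res_apply X.presheaf (homOfLE e) x hxW _
      rw [this]
      exact hunit
    have hGW : (f.appLE V W e).hom (G W) ∉ (hW.primeIdealOf ⟨x, hxW⟩).asIdeal := by
      intro h1
      apply hg'P
      obtain ⟨c, hc⟩ := Finset.dvd_prod_of_mem G hWt
      have : g' = G W * c := hc
      rw [this, map_mul]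
      exact Ideal.mul_mem_right _ _ h1
    obtain ⟨c, hcI, hcP⟩ := hGP W hWt hW e _ (hW.primeIdealOf ⟨x, hxW⟩).isPrime hGW
    have hcn : (f.appLE V W e).hom c • F.presheaf.map (homOfLE e).op n = 0 := by
      have h1 := (hImem c).mp hcI
      have h2 := congrArg (fun m => F.presheaf.map (homOfLE e).op m) h1
      simp only at h2
      rw [Scheme.Modules.map_smul, map_zero] at h2
      exact h2
    have hcu : IsUnit (X.presheaf.germ W x hxW ((f.appLE V W e).hom c)) :=
      (notMem_primeIdealOf_iff hW x hxW _).mp hcP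
    have h3 := congrArg (fun m => F.presheaf.germ W x hxW m) hcn
    simp only at h3
    rw [germ_smul, map_zero] at h3
    exact eq_zero_of_isUnit_smul_eq_zero hcu h3
  obtain ⟨k, hk⟩ := exists_pow_smul_eq_zero_of_isCompact F hq _ hU (f.app V g') _ hW'U hW' n hres
  have : g' ^ k ∈ I := by
    rw [hImem, map_pow]
    exact hk
  exact hg'p ((hV.primeIdealOf ⟨s, hsV⟩).isPrime.mem_of_pow_mem k (hn.1.2 this))

/-- the image of a weakly associated point under an open immersion is weakly associated to the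
direct image -/
theorem isWeakAssPoint_pushforward_of_isOpenImmersion {Y X : Scheme.{u}} (j : Y ⟶ X)
    [IsOpenImmersion j] (M : Y.Modules) (hq : SheafOfModules.IsQuasicoherent.{u, u, u} M)
    (y : Y) (hy : Curv2.IsWeakAssPoint M y) :
    Curv2.IsWeakAssPoint ((Scheme.Modules.pushforward j).obj M) (j y) := by
  have hyr : j y ∈ j.opensRange := ⟨y, rfl⟩
  obtain ⟨_, ⟨V, hV, rfl⟩, hyV, hVle⟩ :=
    (X.isBasis_affineOpens).exists_subset_of_mem_open hyr j.opensRange.2
  have hVle' : V ≤ j.opensRange := hVle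
  have hU : IsAffineOpen (j ⁻¹ᵁ V) := hV.preimage_of_isOpenImmersion j hVle'
  have hyU : y ∈ j ⁻¹ᵁ V := hyV
  obtain ⟨n, hn⟩ := (isWeakAssPoint_iff_exists_mem_minimalPrimes M hq hU y hyU).mp hy
  rw [isWeakAssPoint_pushforward_iff j M hq hV hU (j y) hyV]
  refine ⟨n, ?_⟩
  have e1 : (hV.primeIdealOf ⟨j y, hyV⟩).asIdeal =
      Ideal.comap (j.app V).hom (hU.primeIdealOf ⟨y, hyU⟩).asIdeal := by
    have := IsAffineOpen.comap_primeIdealOf_appLE V hV (j ⁻¹ᵁ V) hU le_rfl hyU
    rw [← this, Scheme.Hom.appLE_eq_app]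
    rfl
  rw [e1]
  have hiso : IsIso (j.app V) := j.isIso_app V hVle'
  have hsurj : Function.Surjective (j.app V).hom :=
    ((ConcreteCategory.isIso_iff_bijective (j.app V)).mp hiso).2
  exact Ideal.minimalPrimes_comap_of_surjective hsurj hn

end Groth.Agent.Helper7.FinType
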