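import Mathlib
import Groth.Agent.Lib.Helper7.CohStalk.PushforwardQC2
import Groth.Prelude.Def_FDesc

/-!
# Helper library (helper7): associated points and sections vanishing on an open subset
-/

set_option autoImplicit false
open CategoryTheory AlgebraicGeometry Topology TopologicalSpace Limits Opposite
universe u
namespace Groth.Agent.Helper7.FinType

/-- specialization of points of an affine open in terms of their primes -/
theorem primeIdealOf_le_iff_specializes {X : Scheme.{u}} {V : X.Opens} (hV : IsAffineOpen V)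
    (x y : X) (hx : x ∈ V) (hy : y ∈ V) :
    (hV.primeIdealOf ⟨x, hx⟩).asIdeal ≤ (hV.primeIdealOf ⟨y, hy⟩).asIdeal ↔ x ⤳ y := by
  have h1 : hV.fromSpec (hV.primeIdealOf ⟨x, hx⟩) ⤳ hV.fromSpec (hV.primeIdealOf ⟨y, hy⟩) ↔
      x ⤳ y := by
    rw [hV.fromSpec_primeIdealOf ⟨x, hx⟩, hV.fromSpec_primeIdealOf ⟨y, hy⟩]
  rw [← h1, hV.fromSpec.isOpenEmbedding.isInducing.specializes_iff]
  exact PrimeSpectrum.le_iff_specializes
    (hV.primeIdealOf ⟨x, hx⟩ : PrimeSpectrum Γ(X, V)) (hV.primeIdealOf ⟨y, hy⟩)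

/-- on a locally Noetherian scheme, an associated point outside an open `U` yields a nonzero section
over an affine open vanishing on `U` -/
theorem exists_section_ne_zero_of_isWeakAssPoint_notMem {X : Scheme.{u}} [IsLocallyNoetherian X]
    (M : X.Modules) (hq : SheafOfModules.IsQuasicoherent.{u, u, u} M) (U : X.Opens) (x : X)
    (hx : Curv2.IsWeakAssPoint M x) (hxU : x ∉ U) :
    ∃ (V : X.Opens) (_ : IsAffineOpen V) (n : Γ(M, V)), n ≠ 0 ∧
      M.presheaf.map (homOfLE (inf_le_left : V ⊓ U ≤ V)).op n = 0 := by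
  obtain ⟨_, ⟨V, hV, rfl⟩, hxV, -⟩ :=
    (X.isBasis_affineOpens).exists_subset_of_mem_open (Set.mem_univ x) isOpen_univ
  have hN : IsNoetherianRing Γ(X, V) := IsLocallyNoetherian.component_noetherian ⟨V, hV⟩
  obtain ⟨n₀, hn₀⟩ := (isWeakAssPoint_iff_exists_mem_minimalPrimes M hq hV x hxV).mp hx
  rw [ker_toSpanSingleton_eq_colon] at hn₀
  obtain ⟨n, hn⟩ := Submodule.exists_eq_colon_of_mem_minimalPrimes hn₀
  have hmem : ∀ a : Γ(X, V), a ∈ (hV.primeIdealOf ⟨x, hxV⟩).asIdeal ↔ a • n = 0 := by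
    intro a
    rw [hn, Submodule.mem_colon_singleton, Submodule.mem_bot]
  refine ⟨V, hV, n, ?_, ?_⟩
  · intro h0
    have : (1 : Γ(X, V)) ∈ (hV.primeIdealOf ⟨x, hxV⟩).asIdeal := by
      rw [hmem, h0, smul_zero]
    exact (hV.primeIdealOf ⟨x, hxV⟩).isPrime.ne_top ((Ideal.eq_top_iff_one _).mpr this)
  · apply TopCat.Presheaf.section_ext ⟨M.presheaf, M.isSheaf⟩ _ _ 0
    intro y hy
    rw [map_zero, TopCat.Presheaf.germ_res_apply M.presheaf (homOfLE inf_le_left) y hy n]
    have hyV : y ∈ V := hy.1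
    have hyU : y ∈ U := hy.2
    have hnot : ¬ (hV.primeIdealOf ⟨x, hxV⟩).asIdeal ≤ (hV.primeIdealOf ⟨y, hyV⟩).asIdeal := by
      rw [primeIdealOf_le_iff_specializes hV x y hxV hyV]
      intro hsp
      exact hxU (hsp.mem_open U.2 hyU)
    obtain ⟨b, hbx, hby⟩ := SetLike.not_le_iff_exists.mp hnot
    have hbu : IsUnit (X.presheaf.germ V y hyV b) := (notMem_primeIdealOf_iff hV y hyV b).mp hby
    have h3 := congrArg (fun m => M.presheaf.germ V y hyV m) ((hmem b).mp hbx)
    simp only at h3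
    rw [germ_smul, map_zero] at h3
    exact eq_zero_of_isUnit_smul_eq_zero hbu h3

end Groth.Agent.Helper7.FinType
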