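import Mathlib
import Groth.Agent.Lib.Helper7.CohStalk.Tilde
import Groth.Agent.S8869
import Groth.Prelude.Def_FDesc

/-!
# Helper library (helper7): associated points of the structure sheaf, generic points and
reducedness
-/

set_option autoImplicit false
open CategoryTheory AlgebraicGeometry Topology TopologicalSpace Limits
universe u
namespace Groth.Agent.Helper7.FinType

theorem isQuasicoherent_structureModule (X : Scheme.{u}) :
    SheafOfModules.IsQuasicoherent.{u, u, u} (Coh.structureModule X) := by
  have h1 : SheafOfModules.IsQuasicoherent.{u, u, u}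
      (SheafOfModules.free (R := X.ringCatSheaf) PUnit.{u + 1}) := inferInstance
  let e : (∐ fun _ : PUnit.{u + 1} => SheafOfModules.unit X.ringCatSheaf) ≅
      SheafOfModules.unit X.ringCatSheaf := coproductUniqueIso _
  exact (SheafOfModules.isQuasicoherent X.ringCatSheaf).prop_of_iso e h1

/-- every point of a scheme has a generization without proper generizations, and such a point is
weakly associated to the structure sheaf -/
theorem exists_generization_isWeakAssPoint (X : Scheme.{u}) (x : X) :
    ∃ η : X, η ⤳ x ∧ (∀ y : X, y ⤳ η → y = η) ∧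
      Curv2.IsWeakAssPoint (Coh.structureModule X) η := by
  obtain ⟨q, hq, -⟩ := Ideal.exists_minimalPrimes_le
    (bot_le : (⊥ : Ideal (X.presheaf.stalk x)) ≤ IsLocalRing.maximalIdeal (X.presheaf.stalk x))
  let Q : PrimeSpectrum (X.presheaf.stalk x) := ⟨q, hq.1.1⟩
  have hrange := Scheme.range_fromSpecStalk (X := X) (x := x)
  have hηx : X.fromSpecStalk x Q ⤳ x := by
    have : X.fromSpecStalk x Q ∈ Set.range (X.fromSpecStalk x) := ⟨Q, rfl⟩
    rwa [hrange] at this
  have hgen : ∀ y : X, y ⤳ X.fromSpecStalk x Q → y = X.fromSpecStalk x Q := by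
    intro y hy
    have : y ∈ Set.range (X.fromSpecStalk x) := by
      rw [hrange]; exact hy.trans hηx
    obtain ⟨Q', rfl⟩ := this
    have h1 : Q' ⤳ Q := (X.fromSpecStalk x).isEmbedding.isInducing.specializes_iff.mp hy
    have h2 : (Q' : PrimeSpectrum (X.presheaf.stalk x)).asIdeal ≤ Q.asIdeal :=
      (PrimeSpectrum.le_iff_specializes (Q' : PrimeSpectrum (X.presheaf.stalk x)) Q).mpr h1
    have h3 : q ≤ Q'.asIdeal := hq.2 ⟨Q'.isPrime, bot_le⟩ h2
    have : Q' = Q := PrimeSpectrum.ext (le_antisymm h2 h3)
    rw [this]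
  refine ⟨X.fromSpecStalk x Q, hηx, hgen, ?_⟩
  rw [Groth.Agent.S8869.H8869.isWeakAss_iff]
  have hprimes := (Groth.Agent.S8869.H8869.gen_lemma X (X.fromSpecStalk x Q)).mpr hgen
  refine ⟨1, ?_⟩
  have hker : LinearMap.ker (LinearMap.toSpanSingleton (X.presheaf.stalk (X.fromSpecStalk x Q))
      (X.presheaf.stalk (X.fromSpecStalk x Q)) 1) = ⊥ := by
    ext r
    simp [LinearMap.mem_ker, LinearMap.toSpanSingleton_apply]
  rw [hker, Ideal.radical_eq_sInf]
  apply le_antisymm
  · exact sInf_le ⟨bot_le, (IsLocalRing.maximalIdeal.isMaximal _).isPrime⟩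
  · refine le_sInf ?_
    rintro P ⟨-, hP⟩
    exact (hprimes P hP).ge

/-- a point without proper generizations of a locally Noetherian scheme lies in every dense open -/
theorem mem_of_dense_of_forall_specializes {X : Scheme.{u}} [IsLocallyNoetherian X] (U : X.Opens)
    (hU : Dense (U : Set X)) (x : X) (hx : ∀ y : X, y ⤳ x → y = x) : x ∈ U := by
  obtain ⟨_, ⟨V, hV, rfl⟩, hxV, -⟩ :=
    (X.isBasis_affineOpens).exists_subset_of_mem_open (Set.mem_univ x) isOpen_univ
  have hVN : IsNoetherianRing Γ(X, V) := IsLocallyNoetherian.component_noetherian ⟨V, hV⟩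
  have hN : NoetherianSpace V := noetherianSpace_of_isAffineOpen V hV
  have hQS : QuasiSober V := V.2.isOpenEmbedding_subtypeVal.quasiSober
  let x' : V := ⟨x, hxV⟩
  have hZ : irreducibleComponent x' ∈ irreducibleComponents V :=
    irreducibleComponent_mem_irreducibleComponents x'
  obtain ⟨ζ, hζ⟩ := hQS.sober (isIrreducible_irreducibleComponent (x := x'))
    (isClosed_irreducibleComponent (x := x'))
  have hζx : ζ ⤳ x' := by
    rw [specializes_iff_mem_closure, hζ.def]; exact mem_irreducibleComponent
  have h1 : ζ.1 ⤳ x := hζx.map continuous_subtype_val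
  have hζeq : ζ.1 = x := hx _ h1
  obtain ⟨o, ho, hone, hoZ⟩ :=
    NoetherianSpace.exists_isOpen_nonempty_subset_irreducibleComponent _ hZ
  have ho' : IsOpen (Subtype.val '' o) := V.2.isOpenEmbedding_subtypeVal.isOpenMap o ho
  obtain ⟨z, hzo, hzU⟩ := hU.inter_open_nonempty _ ho' (hone.image _)
  obtain ⟨z', hz'o, rfl⟩ := hzo
  have h2 : ζ ⤳ z' := by
    rw [specializes_iff_mem_closure, hζ.def]; exact hoZ hz'o
  have h3 : x ⤳ z'.1 := hζeq ▸ h2.map continuous_subtype_val
  exact h3.mem_open U.2 hzU

/-- without embedded points, the associated points of the structure sheaf have no proper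
generizations -/
theorem forall_specializes_of_noEmbedded {X : Scheme.{u}}
    (h : AssSch.NoEmbedded (Coh.structureModule X)) (x : X)
    (hx : Curv2.IsWeakAssPoint (Coh.structureModule X) x) : ∀ y : X, y ⤳ x → y = x := by
  obtain ⟨η, hηx, hgen, hη⟩ := exists_generization_isWeakAssPoint X x
  have h1 : x = η := h x ((isAssPoint_iff_isWeakAssPoint _ x).mpr hx) η
    ((isAssPoint_iff_isWeakAssPoint _ η).mpr hη) hηx
  rw [h1]
  exact hgen

theorem isReduced_of_noEmbedded_of_dense {X : Scheme.{u}} [IsLocallyNoetherian X]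
    (U : X.Opens) (hU : Dense (U : Set X)) [IsReduced (↑U : Scheme.{u})]
    (h : AssSch.NoEmbedded (Coh.structureModule X)) : IsReduced X := by
  refine ⟨fun W => ⟨fun s hs => ?_⟩⟩
  have key : Groth.Agent.S8869.H8869.toM X s = 0 := by
    refine section_eq_zero_of_forall_isWeakAssPoint (Coh.structureModule X)
      (isQuasicoherent_structureModule X) W _ (fun y hy hass => ?_)
    have hyU : y ∈ U := mem_of_dense_of_forall_specializes U hU y
      (forall_specializes_of_noEmbedded h y hass)
    change Groth.Agent.S8869.H8869.mgerm X y hy s = 0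
    rw [Groth.Agent.S8869.H8869.mgerm_eq_zero_iff]
    have hred : _root_.IsReduced (X.presheaf.stalk y) := by
      let y' : U := ⟨y, hyU⟩
      have h1 : _root_.IsReduced ((↑U : Scheme.{u}).presheaf.stalk y') := inferInstance
      have h2 : IsIso (U.ι.stalkMap y') := inferInstance
      have hinj : Function.Injective (U.ι.stalkMap y').hom :=
        ((ConcreteCategory.isIso_iff_bijective (U.ι.stalkMap y')).mp h2).1
      exact isReduced_of_injective (U.ι.stalkMap y').hom hinj
    exact hred.eq_zero _ (hs.map (X.presheaf.germ W y hy).hom)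
  exact key

end Groth.Agent.Helper7.FinType
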