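import Mathlib
import Groth.Agent.Lib.Helper7.CohStalk.AssOpen

/-!
# Helper library (helper7): associated points in short exact sequences of quasi-coherent modules
-/

set_option autoImplicit false
open CategoryTheory AlgebraicGeometry Topology TopologicalSpace Limits Opposite
universe u
namespace Groth.Agent.Helper7.FinType

/-- on a Noetherian affine open, weakly associated points are the associated primes of the
sections -/
theorem isWeakAssPoint_iff_mem_associatedPrimes {X : Scheme.{u}} (M : X.Modules)
    (hq : SheafOfModules.IsQuasicoherent.{u, u, u} M) {V : X.Opens} (hV : IsAffineOpen V)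
    [IsNoetherianRing Γ(X, V)] (x : X) (hx : x ∈ V) :
    Curv2.IsWeakAssPoint M x ↔
      (hV.primeIdealOf ⟨x, hx⟩).asIdeal ∈ associatedPrimes Γ(X, V) Γ(M, V) := by
  rw [isWeakAssPoint_iff_exists_mem_minimalPrimes M hq hV x hx]
  constructor
  · rintro ⟨n, hn⟩
    exact isAssociatedPrime_of_mem_minimalPrimes_of_fg _
      ((isNoetherianRing_iff_ideal_fg Γ(X, V)).mp inferInstance _) n hn
  · intro h
    exact exists_mem_minimalPrimes_of_isAssociatedPrime _ h

/-- sections of a monomorphism of modules are injective -/
theorem injective_app_of_mono {X : Scheme.{u}} {M N : X.Modules} (φ : M ⟶ N) [hφ : Mono φ]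
    (V : X.Opens) : Function.Injective (φ.val.app (op V)).hom := by
  have hφ' : @Mono (SheafOfModules.{u} X.ringCatSheaf) _ M N φ := hφ
  have h1 : Mono ((SheafOfModules.evaluation.{u} X.ringCatSheaf (op V)).map φ) :=
    Functor.map_mono (SheafOfModules.evaluation.{u} X.ringCatSheaf (op V)) φ
  exact (ModuleCat.mono_iff_injective _).mp h1

/-- sections of a left exact sequence of modules form an exact sequence -/
theorem exact_app_of_shortExact {X : Scheme.{u}} (S : ShortComplex X.Modules) (hS : S.ShortExact)
    (V : X.Opens) : Function.Exact (S.f.val.app (op V)).hom (S.g.val.app (op V)).hom := by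
  let F : X.Modules ⥤ ModuleCat.{u} (X.ringCatSheaf.obj.obj (op V)) :=
    SheafOfModules.evaluation.{u} X.ringCatSheaf (op V)
  have hadd : F.Additive := by
    change (SheafOfModules.forget.{u} X.ringCatSheaf ⋙
      PresheafOfModules.evaluation.{u} _ (op V)).Additive
    infer_instance
  have hpl : PreservesFiniteLimits F := by
    change PreservesFiniteLimits (SheafOfModules.evaluation.{u} X.ringCatSheaf (op V))
    infer_instance
  have hmono : Mono S.f := hS.mono_f
  have h1 : (S.map F).Exact :=
    hS.exact.map_of_mono_of_preservesKernel F hmono inferInstance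
  rw [ShortComplex.moduleCat_exact_iff_range_eq_ker] at h1
  intro y
  have h2 : LinearMap.range (S.f.val.app (op V)).hom = LinearMap.ker (S.g.val.app (op V)).hom := h1
  rw [← LinearMap.mem_ker, ← h2]
  rfl

/-- associated points in a short exact sequence of quasi-coherent modules on a locally Noetherian
scheme -/
theorem ass_of_shortExact {X : Scheme.{u}} [IsLocallyNoetherian X] (S : ShortComplex X.Modules)
    (hS : S.ShortExact) (h₁ : SheafOfModules.IsQuasicoherent.{u, u, u} S.X₁)
    (h₂ : SheafOfModules.IsQuasicoherent.{u, u, u} S.X₂)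
    (h₃ : SheafOfModules.IsQuasicoherent.{u, u, u} S.X₃) :
    (∀ x : X, Curv2.IsWeakAssPoint S.X₁ x → Curv2.IsWeakAssPoint S.X₂ x) ∧
    (∀ x : X, Curv2.IsWeakAssPoint S.X₂ x →
      Curv2.IsWeakAssPoint S.X₁ x ∨ Curv2.IsWeakAssPoint S.X₃ x) := by
  have hmono : Mono S.f := hS.mono_f
  constructor
  · intro x hx
    obtain ⟨_, ⟨V, hV, rfl⟩, hxV, -⟩ :=
      (X.isBasis_affineOpens).exists_subset_of_mem_open (Set.mem_univ x) isOpen_univ
    have hN : IsNoetherianRing Γ(X, V) := IsLocallyNoetherian.component_noetherian ⟨V, hV⟩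
    rw [isWeakAssPoint_iff_mem_associatedPrimes _ h₁ hV x hxV] at hx
    rw [isWeakAssPoint_iff_mem_associatedPrimes _ h₂ hV x hxV]
    exact associatedPrimes.subset_of_injective
      (f := (S.f.val.app (op V)).hom) (injective_app_of_mono S.f V) hx
  · intro x hx
    obtain ⟨_, ⟨V, hV, rfl⟩, hxV, -⟩ :=
      (X.isBasis_affineOpens).exists_subset_of_mem_open (Set.mem_univ x) isOpen_univ
    have hN : IsNoetherianRing Γ(X, V) := IsLocallyNoetherian.component_noetherian ⟨V, hV⟩
    rw [isWeakAssPoint_iff_mem_associatedPrimes _ h₂ hV x hxV] at hx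
    rw [isWeakAssPoint_iff_mem_associatedPrimes _ h₁ hV x hxV,
      isWeakAssPoint_iff_mem_associatedPrimes _ h₃ hV x hxV]
    exact associatedPrimes.subset_union_of_exact (f := (S.f.val.app (op V)).hom)
      (g := (S.g.val.app (op V)).hom) (injective_app_of_mono S.f V)
      (exact_app_of_shortExact S hS V) hx

end Groth.Agent.Helper7.FinType
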