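import Mathlib
import Groth.Agent.Lib.Helper7.CohStalk.AssExact

/-!
# Helper library (helper7): weakly associated points in exact sequences, monomorphisms detected at
weakly associated points, generizations in the support
-/

set_option autoImplicit false
open CategoryTheory AlgebraicGeometry Topology TopologicalSpace Limits Opposite
universe u
namespace Groth.Agent.Helper7.FinType

theorem mem_ker_toSpanSingleton {R N : Type*} [CommRing R] [AddCommGroup N] [Module R N] (n : N)
    (a : R) : a ∈ LinearMap.ker (LinearMap.toSpanSingleton R N n) ↔ a • n = 0 := by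
  rw [LinearMap.mem_ker, LinearMap.toSpanSingleton_apply]

/-- Algebra: weakly associated primes in a left exact sequence. -/
theorem exists_mem_minimalPrimes_of_exact {R M' M M'' : Type*} [CommRing R] [AddCommGroup M']
    [Module R M'] [AddCommGroup M] [Module R M] [AddCommGroup M''] [Module R M'']
    (f : M' →ₗ[R] M) (g : M →ₗ[R] M'') (hf : Function.Injective f) (hfg : Function.Exact f g)
    (p : Ideal R) (m : M)
    (hp : p ∈ Ideal.minimalPrimes (LinearMap.ker (LinearMap.toSpanSingleton R M m))) :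
    (∃ m' : M', p ∈ Ideal.minimalPrimes (LinearMap.ker (LinearMap.toSpanSingleton R M' m'))) ∨
    (∃ m'' : M'', p ∈ Ideal.minimalPrimes (LinearMap.ker (LinearMap.toSpanSingleton R M'' m''))) := by
  have hpp : p.IsPrime := hp.1.1
  by_cases hle : LinearMap.ker (LinearMap.toSpanSingleton R M'' (g m)) ≤ p
  · right
    refine ⟨g m, ⟨hpp, hle⟩, ?_⟩
    rintro q ⟨hq, hIq⟩ hqp
    refine hp.2 ⟨hq, ?_⟩ hqp
    intro a ha
    apply hIq
    rw [mem_ker_toSpanSingleton, ← map_smul, (mem_ker_toSpanSingleton m a).mp ha, map_zero]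
  · left
    obtain ⟨b, hb, hbp⟩ := SetLike.not_le_iff_exists.mp hle
    have hbm : g (b • m) = 0 := by
      rw [map_smul]; exact (mem_ker_toSpanSingleton (g m) b).mp hb
    obtain ⟨m', hm'⟩ := (hfg (b • m)).mp hbm
    refine ⟨m', ⟨hpp, ?_⟩, ?_⟩
    · intro a ha
      have h1 : a • (b • m) = 0 := by
        rw [← hm', ← map_smul, (mem_ker_toSpanSingleton m' a).mp ha, map_zero]
      rw [smul_smul] at h1
      have h2 : a * b ∈ p := hp.1.2 ((mem_ker_toSpanSingleton m _).mpr h1)
      rcases hpp.mem_or_mem h2 with h | h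
      · exact h
      · exact absurd h hbp
    · rintro q ⟨hq, hIq⟩ hqp
      refine hp.2 ⟨hq, ?_⟩ hqp
      intro a ha
      apply hIq
      rw [mem_ker_toSpanSingleton]
      apply hf
      rw [map_smul, hm', map_zero, smul_comm, (mem_ker_toSpanSingleton m a).mp ha, smul_zero]

/-- Algebra: weakly associated primes of a submodule. -/
theorem mem_minimalPrimes_of_injective {R M' M : Type*} [CommRing R] [AddCommGroup M']
    [Module R M'] [AddCommGroup M] [Module R M]
    (f : M' →ₗ[R] M) (hf : Function.Injective f) (p : Ideal R) (m' : M')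
    (hp : p ∈ Ideal.minimalPrimes (LinearMap.ker (LinearMap.toSpanSingleton R M' m'))) :
    p ∈ Ideal.minimalPrimes (LinearMap.ker (LinearMap.toSpanSingleton R M (f m'))) := by
  have : LinearMap.ker (LinearMap.toSpanSingleton R M (f m')) =
      LinearMap.ker (LinearMap.toSpanSingleton R M' m') := by
    ext a
    rw [LinearMap.mem_ker, LinearMap.toSpanSingleton_apply, LinearMap.mem_ker,
      LinearMap.toSpanSingleton_apply, ← map_smul]
    exact ⟨fun h => hf (h.trans (map_zero f).symm), fun h => by rw [h, map_zero]⟩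
  rw [this]
  exact hp

/-- weakly associated points in a short exact sequence of quasi-coherent modules -/
theorem weakAss_of_shortExact {X : Scheme.{u}} (S : ShortComplex X.Modules)
    (hS : S.ShortExact) (h₁ : SheafOfModules.IsQuasicoherent.{u, u, u} S.X₁)
    (h₂ : SheafOfModules.IsQuasicoherent.{u, u, u} S.X₂)
    (h₃ : SheafOfModules.IsQuasicoherent.{u, u, u} S.X₃) :
    (∀ x : X, Curv2.IsWeakAssPoint S.X₁ x → Curv2.IsWeakAssPoint S.X₂ x) ∧
    (∀ x : X, Curv2.IsWeakAssPoint S.X₂ x →
      Curv2.IsWeakAssPoint S.X₁ x ∨ Curv2.IsWeakAssPoint S.X₃ x) := by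
  have hmono : Mono S.f := hS.mono_f
  constructor
  · intro x hx
    obtain ⟨_, ⟨V, hV, rfl⟩, hxV, -⟩ :=
      (X.isBasis_affineOpens).exists_subset_of_mem_open (Set.mem_univ x) isOpen_univ
    rw [isWeakAssPoint_iff_exists_mem_minimalPrimes _ h₁ hV x hxV] at hx
    rw [isWeakAssPoint_iff_exists_mem_minimalPrimes _ h₂ hV x hxV]
    obtain ⟨n, hn⟩ := hx
    let f' : Γ(S.X₁, V) →ₗ[Γ(X, V)] Γ(S.X₂, V) := (S.f.val.app (op V)).hom
    exact ⟨f' n, mem_minimalPrimes_of_injective f'
      (injective_app_of_mono S.f V) _ n hn⟩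
  · intro x hx
    obtain ⟨_, ⟨V, hV, rfl⟩, hxV, -⟩ :=
      (X.isBasis_affineOpens).exists_subset_of_mem_open (Set.mem_univ x) isOpen_univ
    rw [isWeakAssPoint_iff_exists_mem_minimalPrimes _ h₂ hV x hxV] at hx
    rw [isWeakAssPoint_iff_exists_mem_minimalPrimes _ h₁ hV x hxV,
      isWeakAssPoint_iff_exists_mem_minimalPrimes _ h₃ hV x hxV]
    obtain ⟨n, hn⟩ := hx
    let f' : Γ(S.X₁, V) →ₗ[Γ(X, V)] Γ(S.X₂, V) := (S.f.val.app (op V)).hom
    let g' : Γ(S.X₂, V) →ₗ[Γ(X, V)] Γ(S.X₃, V) := (S.g.val.app (op V)).hom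
    exact exists_mem_minimalPrimes_of_exact f' g'
      (injective_app_of_mono S.f V) (exact_app_of_shortExact S hS V) _ n hn

/-- a morphism of modules which is injective on sections over every open is a monomorphism -/
theorem mono_of_injective_app {X : Scheme.{u}} {F G : X.Modules} (φ : F ⟶ G)
    (h : ∀ W : X.Opens, Function.Injective (φ.app W)) : Mono φ := by
  refine ⟨fun {T} a b hab => ?_⟩
  apply Scheme.Modules.hom_ext
  intro W
  ext t
  apply h W
  have := congrArg (fun ψ => (Scheme.Modules.Hom.app ψ W) t) hab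
  exact this

/-- a morphism of quasi-coherent modules which is injective on stalks at the weakly associated
points of the source is a monomorphism -/
theorem mono_of_injective_stalk_at_weakAss {X : Scheme.{u}} {F G : X.Modules} (φ : F ⟶ G)
    (hF : SheafOfModules.IsQuasicoherent.{u, u, u} F)
    (h : ∀ x : X, Function.Injective ((TopCat.Presheaf.stalkFunctor AddCommGrpCat.{u} x).map
      (Scheme.Modules.Hom.mapPresheaf φ)) ∨ ¬ Curv2.IsWeakAssPoint F x) : Mono φ := by
  apply mono_of_injective_app
  intro W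
  rw [injective_iff_map_eq_zero]
  intro n hn
  refine section_eq_zero_of_forall_isWeakAssPoint F hF W n (fun y hy hass => ?_)
  rcases h y with hinj | hnot
  · apply hinj
    have h1 := TopCat.Presheaf.stalkFunctor_map_germ_apply W y hy
      (Scheme.Modules.Hom.mapPresheaf φ) n
    have h2 : (Scheme.Modules.Hom.mapPresheaf φ).app (op W) n = 0 := hn
    rw [h2, map_zero] at h1
    exact h1.trans (map_zero _).symm
  · exact absurd hass hnot

/-- every point of the support of a quasi-coherent module is a specialization of a weakly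
associated point -/
theorem exists_isWeakAssPoint_specializes {X : Scheme.{u}} (F : X.Modules)
    (hq : SheafOfModules.IsQuasicoherent.{u, u, u} F) (y : X)
    (hy : Nontrivial (F.presheaf.stalk y)) :
    ∃ y' : X, Curv2.IsWeakAssPoint F y' ∧ y' ⤳ y := by
  obtain ⟨_, ⟨V, hV, rfl⟩, hyV, -⟩ :=
    (X.isBasis_affineOpens).exists_subset_of_mem_open (Set.mem_univ y) isOpen_univ
  obtain ⟨μ, hμ⟩ := exists_ne (0 : F.presheaf.stalk y)
  obtain ⟨n, f, hf, hfn⟩ := exists_germ_smul_eq F hq hV y hyV μ
  have hgn : F.presheaf.germ V y hyV n ≠ 0 := by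
    intro h0
    rw [h0] at hfn
    exact hμ (eq_zero_of_isUnit_smul_eq_zero hf hfn)
  have hle : LinearMap.ker (LinearMap.toSpanSingleton Γ(X, V) Γ(F, V) n) ≤
      (hV.primeIdealOf ⟨y, hyV⟩).asIdeal := by
    intro a ha
    by_contra hay
    have hau : IsUnit (X.presheaf.germ V y hyV a) := (notMem_primeIdealOf_iff hV y hyV a).mp hay
    have h3 := congrArg (fun m => F.presheaf.germ V y hyV m) ((mem_ker_toSpanSingleton n a).mp ha)
    simp only at h3
    rw [germ_smul, map_zero] at h3
    exact hgn (eq_zero_of_isUnit_smul_eq_zero hau h3)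
  obtain ⟨q, hq', hqle⟩ := Ideal.exists_minimalPrimes_le hle
  let z : PrimeSpectrum Γ(X, V) := ⟨q, hq'.1.1⟩
  have hzV : hV.fromSpec z ∈ V := fromSpec_mem hV z
  refine ⟨hV.fromSpec z, ?_, ?_⟩
  · rw [isWeakAssPoint_iff_exists_mem_minimalPrimes F hq hV _ hzV, primeIdealOf_fromSpec hV z hzV]
    exact ⟨n, hq'⟩
  · rw [← primeIdealOf_le_iff_specializes hV _ y hzV hyV, primeIdealOf_fromSpec hV z hzV]
    exact hqle

end Groth.Agent.Helper7.FinType
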