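import Mathlib
import Groth.Agent.Lib.Helper7.CohStalk.WeakAssExact

/-!
# Helper library (helper7): zero loci in affine opens and Krull's principal ideal theorem for
locally principal closed subschemes
-/

set_option autoImplicit false
open CategoryTheory AlgebraicGeometry Topology TopologicalSpace Limits Opposite
universe u
namespace Groth.Agent.Helper7.FinType

/-- membership in the zero locus of an ideal of an affine open, in terms of the prime of the point -/
theorem mem_zeroLocus_iff_le_primeIdealOf {X : Scheme.{u}} {U : X.Opens} (hU : IsAffineOpen U)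
    (I : Ideal Γ(X, U)) (x : X) (hx : x ∈ U) :
    x ∈ X.zeroLocus (U := U) (I : Set Γ(X, U)) ↔ I ≤ (hU.primeIdealOf ⟨x, hx⟩).asIdeal := by
  rw [Scheme.mem_zeroLocus_iff]
  constructor
  · intro h g hg
    by_contra hgp
    have hu : IsUnit (X.presheaf.germ U x hx g) := (notMem_primeIdealOf_iff hU x hx g).mp hgp
    exact h g hg ((X.mem_basicOpen g x hx).mpr hu)
  · intro h g hg hxg
    have hu : IsUnit (X.presheaf.germ U x hx g) := (X.mem_basicOpen g x hx).mp hxg
    exact (notMem_primeIdealOf_iff hU x hx g).mpr hu (h hg)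

/-- Krull's principal ideal theorem at generic points of locally principal closed subschemes -/
theorem ringKrullDim_stalk_le_one_of_isLocPrincipal (X : Scheme.{u}) [IsLocallyNoetherian X]
    (D : X.IdealSheafData) (hD : Curv2.IsLocPrincipal D) (ξ : X)
    (hξ : ξ ∈ (D.support : Set X)) (hgen : ∀ y ∈ (D.support : Set X), y ⤳ ξ → y = ξ) :
    ringKrullDim (X.presheaf.stalk ξ) ≤ 1 := by
  obtain ⟨U, hξU, f, hf⟩ := hD ξ hξ
  have hN : IsNoetherianRing Γ(X, U.1) := IsLocallyNoetherian.component_noetherian U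
  have hmin : (U.2.primeIdealOf ⟨ξ, hξU⟩).asIdeal ∈ (Ideal.span {f}).minimalPrimes := by
    refine ⟨⟨(U.2.primeIdealOf ⟨ξ, hξU⟩).isPrime, ?_⟩, ?_⟩
    · rw [← hf, ← mem_zeroLocus_iff_le_primeIdealOf U.2 (D.ideal U) ξ hξU]
      exact (Scheme.IdealSheafData.mem_support_iff_of_mem hξU).mp hξ
    · rintro q ⟨hq, hfq⟩ hqp
      let z : PrimeSpectrum Γ(X, U.1) := ⟨q, hq⟩
      have hzU : U.2.fromSpec z ∈ U.1 := fromSpec_mem U.2 z
      have hzD : U.2.fromSpec z ∈ (D.support : Set X) := by
        apply (Scheme.IdealSheafData.mem_support_iff_of_mem hzU).mpr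
        rw [mem_zeroLocus_iff_le_primeIdealOf U.2 (D.ideal U) _ hzU, primeIdealOf_fromSpec U.2 z hzU,
          hf]
        exact hfq
      have hsp : U.2.fromSpec z ⤳ ξ := by
        rw [← primeIdealOf_le_iff_specializes U.2 _ ξ hzU hξU, primeIdealOf_fromSpec U.2 z hzU]
        exact hqp
      have heq := hgen _ hzD hsp
      have : U.2.primeIdealOf ⟨ξ, hξU⟩ = z := by
        have h1 := primeIdealOf_fromSpec U.2 z hzU
        rw [← h1]
        congr 1
        exact Subtype.ext heq.symm
      rw [this]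
  have hht := Ideal.height_le_one_of_isPrincipal_of_mem_minimalPrimes (Ideal.span {f}) _ hmin
  let _ : Algebra Γ(X, U.1) (X.presheaf.stalk ξ) :=
    TopCat.Presheaf.algebra_section_stalk X.presheaf (⟨ξ, hξU⟩ : U.1)
  have hloc : IsLocalization.AtPrime (X.presheaf.stalk ξ) (U.2.primeIdealOf ⟨ξ, hξU⟩).asIdeal :=
    U.2.isLocalization_stalk ⟨ξ, hξU⟩
  rw [IsLocalization.AtPrime.ringKrullDim_eq_height (U.2.primeIdealOf ⟨ξ, hξU⟩).asIdeal
    (X.presheaf.stalk ξ)]
  exact_mod_cast hht

end Groth.Agent.Helper7.FinType
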